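import Cfsg.Agent.OreSp.Classify
import Mathlib.Algebra.Field.ZMod
import Mathlib.Data.Matrix.Mul
import Mathlib.LinearAlgebra.Matrix.Notation
import Mathlib.FieldTheory.Finite.Basic
import Mathlib.Algebra.CharP.CharAndCard

/-!
# The smallest mixed case over the field of three elements
-/

set_option autoImplicit false

namespace CfsgLib.OreSp

open Matrix

universe v w

/-- The form of two planes. -/
def planesForm (R : Type*) [CommRing R] : Matrix (Fin 4) (Fin 4) R :=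
  !![0, 1, 0, 0; -1, 0, 0, 0; 0, 0, 0, 1; 0, 0, -1, 0]

/-- A plane isometry next to `-1`. -/
def planesMap {R : Type*} [CommRing R] (a b c d : R) : Matrix (Fin 4) (Fin 4) R :=
  !![a, b, 0, 0; c, d, 0, 0; 0, 0, -1, 0; 0, 0, 0, -1]

/-- Commutator solutions for `SL₂(3)` next to `-1`. -/
def atomTable (a b c d : ZMod 3) : Matrix (Fin 4) (Fin 4) (ZMod 3) × Matrix (Fin 4) (Fin 4) (ZMod 3) :=
  match a.val, b.val, c.val, d.val with
  | 0, 1, 2, 0 => (!![0,0,2,1; 2,2,2,0; 2,1,2,1; 2,0,1,2],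
      !![2,1,2,0; 2,2,1,1; 2,1,1,0; 1,0,0,2])
  | 0, 1, 2, 1 => (!![0,0,2,0; 1,1,2,2; 2,0,2,0; 1,2,2,0],
      !![1,2,0,2; 0,1,0,1; 1,0,2,1; 2,0,1,1])
  | 0, 1, 2, 2 => (!![2,2,2,0; 1,1,2,2; 2,2,0,0; 0,2,2,1],
      !![1,1,0,2; 2,2,1,0; 1,1,0,0; 1,2,2,1])
  | 0, 2, 1, 0 => (!![1,0,2,0; 0,2,1,1; 2,1,0,1; 1,0,1,0],
      !![2,2,1,1; 1,0,2,2; 0,1,2,0; 0,1,1,2])
  | 0, 2, 1, 1 => (!![2,0,0,2; 2,0,1,2; 2,1,1,0; 1,1,1,0],
      !![2,2,2,1; 1,2,0,1; 0,2,2,2; 2,2,1,2])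
  | 0, 2, 1, 2 => (!![1,2,2,1; 2,0,1,0; 2,2,2,2; 2,0,2,0],
      !![2,1,0,1; 2,1,2,1; 1,0,2,0; 0,1,2,0])
  | 1, 0, 0, 1 => (!![1,2,2,1; 2,0,0,1; 2,2,1,0; 2,0,0,2],
      !![0,2,1,0; 2,1,0,2; 0,2,2,0; 2,0,2,1])
  | 1, 0, 1, 1 => (!![1,2,0,1; 1,2,2,1; 1,1,2,0; 0,1,1,0],
      !![2,0,2,2; 1,0,0,2; 2,2,1,2; 0,2,1,2])
  | 1, 0, 2, 1 => (!![1,1,2,1; 1,1,1,1; 1,0,2,0; 0,1,1,0],
      !![1,2,1,1; 1,0,2,2; 2,2,0,2; 1,1,1,2])
  | 1, 1, 0, 1 => (!![2,1,1,2; 0,2,0,0; 0,2,1,1; 0,0,1,2],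
      !![2,0,0,2; 2,1,2,0; 1,1,1,1; 2,1,1,0])
  | 1, 1, 1, 2 => (!![1,0,0,1; 2,1,0,2; 0,2,2,0; 0,0,0,2],
      !![0,2,1,1; 2,2,1,0; 0,1,1,1; 1,0,0,2])
  | 1, 1, 2, 0 => (!![2,1,2,0; 0,0,2,2; 1,1,1,1; 1,2,0,0],
      !![1,2,0,2; 0,2,2,2; 0,1,2,2; 1,1,1,2])
  | 1, 2, 0, 1 => (!![1,2,1,2; 1,2,2,2; 1,0,2,0; 0,1,2,0],
      !![0,0,0,1; 0,2,2,1; 2,0,0,2; 0,2,0,0])
  | 1, 2, 1, 0 => (!![1,1,1,2; 1,1,0,1; 1,1,0,0; 1,2,1,1],
      !![2,0,0,2; 2,1,2,0; 1,2,2,0; 0,2,2,1])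
  | 1, 2, 2, 2 => (!![2,1,0,2; 0,1,2,2; 0,1,1,1; 1,2,0,2],
      !![1,0,2,1; 2,1,2,1; 1,1,0,1; 0,0,2,1])
  | 2, 0, 0, 2 => (!![2,0,1,0; 1,1,1,2; 1,0,1,0; 1,2,0,2],
      !![2,0,2,0; 1,1,2,1; 2,0,1,0; 2,1,0,2])
  | 2, 0, 1, 2 => (!![2,0,2,2; 1,1,2,0; 2,2,2,0; 0,1,2,1],
      !![1,0,2,2; 0,2,2,0; 1,2,2,1; 1,1,0,1])
  | 2, 0, 2, 2 => (!![1,1,0,2; 0,2,2,0; 1,1,0,1; 2,1,1,2],
      !![2,1,1,1; 1,1,0,0; 2,2,2,0; 2,2,1,2])
  | 2, 1, 0, 2 => (!![1,1,2,1; 0,0,1,1; 1,2,2,2; 2,2,0,0],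
      !![0,1,1,0; 1,1,0,2; 2,0,2,2; 2,1,1,2])
  | 2, 1, 1, 1 => (!![0,2,1,1; 2,1,2,1; 2,1,1,2; 1,0,0,2],
      !![1,2,1,0; 1,0,0,0; 2,0,1,1; 2,0,0,1])
  | 2, 1, 2, 0 => (!![0,1,1,2; 2,0,2,1; 1,2,2,2; 2,1,0,2],
      !![0,1,2,0; 0,0,1,2; 2,1,2,1; 1,1,1,2])
  | 2, 2, 0, 2 => (!![1,0,2,2; 0,2,0,1; 1,0,1,1; 0,2,0,2],
      !![2,1,0,2; 1,2,1,1; 1,2,0,0; 2,2,1,0])
  | 2, 2, 1, 0 => (!![2,0,2,2; 0,0,0,2; 0,1,0,2; 2,1,0,2],
      !![1,0,1,1; 2,0,1,2; 0,1,1,0; 2,1,1,0])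
  | 2, 2, 2, 1 => (!![0,2,2,1; 2,2,0,1; 1,1,0,1; 1,0,1,0],
      !![1,0,2,0; 1,2,0,1; 2,0,2,0; 2,1,0,1])
  | _, _, _, _ => (1, 1)

theorem atomTable_spec : ∀ a b c d : ZMod 3, a * d - b * c = 1 →
    (atomTable a b c d).1ᵀ * planesForm (ZMod 3) * (atomTable a b c d).1 = planesForm (ZMod 3) ∧
    (atomTable a b c d).2ᵀ * planesForm (ZMod 3) * (atomTable a b c d).2 = planesForm (ZMod 3) ∧
    planesMap a b c d * (atomTable a b c d).2 * (atomTable a b c d).1 =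
      (atomTable a b c d).1 * (atomTable a b c d).2 := by
  decide +kernel

theorem form_mulVec {R : Type*} [CommRing R] {ι : Type*} [Fintype ι] (X J : Matrix ι ι R) (a b : ι → R) :
    (X *ᵥ a) ⬝ᵥ (J *ᵥ (X *ᵥ b)) = a ⬝ᵥ ((Xᵀ * J * X) *ᵥ b) := by
  rw [← Matrix.mulVec_mulVec, ← Matrix.mulVec_mulVec, Matrix.dotProduct_mulVec a Xᵀ,
    Matrix.vecMul_transpose]

variable {F : Type v} [Field F]

/-- Coordinates of a plane. -/
theorem exists_plane_coords (X : Space.{v, w} F) (h : Module.finrank F X.V = 2) :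
    ∃ e : X.V ≃ₗ[F] (Fin 2 → F), ∀ u u', X.B u u' = e u 0 * e u' 1 - e u 1 * e u' 0 := by
  haveI : Nontrivial X.V := Module.nontrivial_of_finrank_pos (by omega : 0 < Module.finrank F X.V)
  obtain ⟨x, hx⟩ := exists_ne (0 : X.V)
  obtain ⟨y, hy⟩ : ∃ y, X.B x y ≠ 0 := by
    by_contra hh
    push Not at hh
    exact hx (X.nd x hh)
  set y' := (X.B x y)⁻¹ • y with hy'
  have hxy : X.B x y' = 1 := by rw [hy', map_smul, smul_eq_mul, inv_mul_cancel₀ hy]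
  have hyx : X.B y' x = -1 := by rw [X.swap, hxy]
  have hli : LinearIndependent F ![x, y'] := by
    refine LinearIndependent.pair_iff.mpr fun s t hst => ?_
    have h1 := congrArg (fun z => X.B z y') hst
    have h2 := congrArg (fun z => X.B z x) hst
    simp [X.alt, hxy, hyx] at h1 h2
    exact ⟨h1, h2⟩
  let b := basisOfLinearIndependentOfCardEqFinrank hli (by rw [Fintype.card_fin, h])
  refine ⟨b.equivFun, fun u u' => ?_⟩
  have hb : ∀ i, b i = ![x, y'] i := fun i => by simp [b]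
  conv_lhs => rw [← b.sum_equivFun u, ← b.sum_equivFun u']
  simp [Fin.sum_univ_two, hb, X.alt, hxy, hyx]
  ring

/-- The mixed case: a plane plus `-1` on a plane over three elements. -/
theorem comm_atom [Fintype F] (h3 : Fintype.card F = 3) (G P : Space.{v, w} F)
    (hG : Module.finrank F G.V = 2) (hP : Module.finrank F P.V = 2) (hPg : ∀ x, P.g x = -x) :
    Comm (G.prod P) := by
  obtain ⟨eG, hBG⟩ := exists_plane_coords G hG
  obtain ⟨eP, hBP⟩ := exists_plane_coords P hP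
  let e : (G.prod P).V ≃ₗ[F] (Fin 4 → F) :=
    { toFun := fun u => ![eG u.1 0, eG u.1 1, eP u.2 0, eP u.2 1]
      invFun := fun f => (eG.symm ![f 0, f 1], eP.symm ![f 2, f 3])
      left_inv := fun u => by
        refine Prod.ext (eG.injective ?_) (eP.injective ?_) <;>
        · simp only [LinearEquiv.apply_symm_apply]
          funext i
          fin_cases i <;> rfl
      right_inv := fun f => by
        funext i
        fin_cases i <;> simp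
      map_add' := fun u u' => by
        funext i
        fin_cases i <;> simp
      map_smul' := fun r u => by
        funext i
        fin_cases i <;> simp }
  have heB : ∀ u u', (G.prod P).B u u' = e u ⬝ᵥ (planesForm F *ᵥ e u') := by
    intro u u'
    rw [Space.prod_B, hBG, hBP]
    simp [e, planesForm, Matrix.mulVec, dotProduct, Fin.sum_univ_four]
    ring
  -- the plane matrix
  set p := eG (G.g (eG.symm ![1, 0]))
  set q := eG (G.g (eG.symm ![0, 1]))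
  have hdet : p 0 * q 1 - q 0 * p 1 = 1 := by
    have := hBG (G.g (eG.symm ![1, 0])) (G.g (eG.symm ![0, 1]))
    rw [G.isom, hBG] at this
    simp at this
    linear_combination -this
  have hg : ∀ u, e ((G.prod P).g u) = planesMap (p 0) (q 0) (p 1) (q 1) *ᵥ e u := by
    intro u
    have hu : eG (G.g u.1) = eG u.1 0 • p + eG u.1 1 • q := by
      have : u.1 = eG u.1 0 • eG.symm ![1, 0] + eG u.1 1 • eG.symm ![0, 1] := by
        apply eG.injective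
        funext i
        fin_cases i <;> simp
      conv_lhs => rw [this]
      simp [p, q]
    funext i
    show ![eG (G.g u.1) 0, eG (G.g u.1) 1, eP (P.g u.2) 0, eP (P.g u.2) 1] i = _
    rw [hu, hPg, map_neg]
    fin_cases i <;> simp [e, planesMap, Matrix.mulVec, dotProduct, Fin.sum_univ_four] <;> ring
  -- transport the table
  haveI : CharP F 3 := charP_of_card_eq_prime (p := 3) (by exact h3)
  let φ : ZMod 3 ≃+* F := ZMod.ringEquiv F h3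
  obtain ⟨a, ha⟩ := φ.surjective (p 0)
  obtain ⟨b, hb⟩ := φ.surjective (q 0)
  obtain ⟨c, hc⟩ := φ.surjective (p 1)
  obtain ⟨d, hd⟩ := φ.surjective (q 1)
  obtain ⟨h1, h2, h12⟩ := atomTable_spec a b c d (φ.injective (by
    rw [map_sub, map_mul, map_mul, ha, hb, hc, hd, map_one, hdet]))
  let ψ := (φ : ZMod 3 →+* F)
  have hJ : (planesForm (ZMod 3)).map ψ = planesForm F := by
    ext i j
    fin_cases i <;> fin_cases j <;> simp [planesForm, ψ]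
  have hM : (planesMap a b c d).map ψ = planesMap (p 0) (q 0) (p 1) (q 1) := by
    ext i j
    fin_cases i <;> fin_cases j <;> simp [planesMap, ψ, ha, hb, hc, hd]
  set x := (atomTable a b c d).1.map ψ
  set y := (atomTable a b c d).2.map ψ
  have hx : xᵀ * planesForm F * x = planesForm F := by
    have := congrArg (fun M => M.map ψ) h1
    simpa only [Matrix.map_mul, Matrix.transpose_map, hJ] using this
  have hy : yᵀ * planesForm F * y = planesForm F := by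
    have := congrArg (fun M => M.map ψ) h2
    simpa only [Matrix.map_mul, Matrix.transpose_map, hJ] using this
  have hxy : planesMap (p 0) (q 0) (p 1) (q 1) * y * x = x * y := by
    have := congrArg (fun M => M.map ψ) h12
    simpa only [Matrix.map_mul, hM] using this
  let T : Matrix (Fin 4) (Fin 4) F → Module.End F (G.prod P).V := fun M =>
    e.symm.toLinearMap ∘ₗ M.mulVecLin ∘ₗ e.toLinearMap
  have hT : ∀ M u, e (T M u) = M *ᵥ e u := fun M u => e.apply_symm_apply _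
  have hTI : ∀ M, Mᵀ * planesForm F * M = planesForm F →
      ∀ u u', (G.prod P).B (T M u) (T M u') = (G.prod P).B u u' := fun M hM u u' => by
    rw [heB, heB, hT, hT, form_mulVec, hM]
  refine ⟨isomEquiv _ _ (hTI x hx), isomEquiv _ _ (hTI y hy), hTI x hx, hTI y hy, fun v => ?_⟩
  apply e.injective
  show e ((G.prod P).g (T y (T x v))) = e (T x (T y v))
  rw [hg, hT, hT, hT, hT, Matrix.mulVec_mulVec, Matrix.mulVec_mulVec, Matrix.mulVec_mulVec, hxy]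

end CfsgLib.OreSp
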