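import Cfsg.Agent.OreSp.Space
import Mathlib.RingTheory.Nilpotent.Basic
import Mathlib.LinearAlgebra.FiniteDimensional.Lemmas
import Mathlib.Tactic.LinearCombination
import Mathlib.Tactic.Module

/-!
# Canonical bases for a skew nilpotent operator with two odd blocks
-/

set_option autoImplicit false

namespace CfsgLib.OreSp

open LinearMap Submodule

universe v w

variable {F : Type v} [Field F] {X : Space.{v, w} F}

/-- The data: a skew operator, nilpotent of odd index `n`. -/
structure SkewNil (X : Space.{v, w} F) (A : Module.End F X.V) (n : ℕ) : Prop where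
  skew : ∀ x y, X.B (A x) y = -X.B x (A y)
  nil : A ^ n = 0
  odd : Odd n
  two : (2 : F) ≠ 0

namespace SkewNil

variable {A : Module.End F X.V} {n : ℕ} (h : SkewNil X A n)
include h

theorem move (i : ℕ) (x y : X.V) (j : ℕ) :
    X.B ((A ^ i) x) ((A ^ j) y) = (-1) ^ i * X.B x ((A ^ (i + j)) y) := by
  induction i generalizing j with
  | zero => simp
  | succ i ih =>
    rw [pow_succ' A, Module.End.mul_apply, h.skew, ← Module.End.mul_apply A, ← pow_succ', ih,
      show i + (j + 1) = i + 1 + j by omega, pow_succ]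
    ring

theorem deep {k : ℕ} (hk : n ≤ k) (y : X.V) : (A ^ k) y = 0 := by
  rw [pow_eq_zero_of_le hk h.nil, LinearMap.zero_apply]

theorem flip (k : ℕ) (x y : X.V) :
    X.B y ((A ^ k) x) = -((-1) ^ k * X.B x ((A ^ k) y)) := by
  rw [X.swap ((A ^ k) x) y]
  have := h.move k x y 0
  rw [pow_zero, Module.End.one_apply, add_zero] at this
  rw [this]

theorem self_even {k : ℕ} (hk : Even k) (x : X.V) : X.B x ((A ^ k) x) = 0 := by
  have h1 := h.flip k x x
  rw [hk.neg_one_pow, one_mul] at h1
  have h2 : (2 : F) * X.B x ((A ^ k) x) = 0 := by linear_combination h1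
  exact (mul_eq_zero.mp h2).resolve_left h.two

/-- One vector can be made isotropic against all powers of `A`. -/
theorem exists_iso (v w : X.V) (hvw : X.B v ((A ^ (n - 1)) w) ≠ 0) :
    ∃ v', X.B v' ((A ^ (n - 1)) w) ≠ 0 ∧ ∀ k, X.B v' ((A ^ k) v') = 0 := by
  suffices ∀ t, ∃ v', X.B v' ((A ^ (n - 1)) w) ≠ 0 ∧ ∀ k, n ≤ k + t → X.B v' ((A ^ k) v') = 0 by
    obtain ⟨v', h1, h2⟩ := this n
    exact ⟨v', h1, fun k => h2 k (by omega)⟩
  intro t
  induction t with
  | zero => exact ⟨v, hvw, fun k hk => by rw [h.deep (by omega), map_zero]⟩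
  | succ t ih =>
    obtain ⟨v', h1, h2⟩ := ih
    by_cases hk : t + 1 ≤ n ∧ Odd (n - (t + 1))
    swap
    · refine ⟨v', h1, fun k hkn => ?_⟩
      rcases Nat.even_or_odd k with he | ho
      · exact h.self_even he _
      · refine h2 k ?_
        by_contra hh
        exact hk ⟨by omega, by rwa [show n - (t + 1) = k by omega]⟩
    obtain ⟨htn, hk₀⟩ := hk
    set k₀ := n - (t + 1) with hk₀def
    have hodd := h.odd
    obtain ⟨d, hd⟩ := h.odd
    obtain ⟨d', hd'⟩ := hk₀
    set m := n - 1 - k₀ with hm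
    have hm1 : 1 ≤ m := by omega
    set b := X.B v' ((A ^ (n - 1)) w)
    set τ := -X.B v' ((A ^ k₀) v') / (2 * b) with hτ
    refine ⟨v' + τ • (A ^ m) w, ?_, fun l hl => ?_⟩
    · rw [map_add, LinearMap.add_apply, map_smul, LinearMap.smul_apply, h.move,
        h.deep (show n ≤ m + (n - 1) by omega), map_zero, mul_zero, smul_zero, add_zero]
      exact h1
    · rcases Nat.even_or_odd l with he | ho
      · exact h.self_even he _
      have hmo : Odd m := ⟨d - d' - 1, by omega⟩
      have hlm : Even (m + l) := hmo.add_odd ho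
      have hquad : X.B ((A ^ m) w) ((A ^ l) ((A ^ m) w)) = 0 := by
        rw [← Module.End.mul_apply, ← pow_add, h.move, h.deep (show n ≤ m + (l + m) by omega), map_zero,
          mul_zero]
      have hl1 : X.B v' ((A ^ l) ((A ^ m) w)) = X.B v' ((A ^ (m + l)) w) := by
        rw [← Module.End.mul_apply, ← pow_add, add_comm]
      have hl2 : X.B ((A ^ m) w) ((A ^ l) v') = X.B v' ((A ^ (m + l)) w) := by
        rw [h.move, h.flip (m + l) v' w, hmo.neg_one_pow, hlm.neg_one_pow]
        ring
      simp only [map_add, map_smul, LinearMap.add_apply, LinearMap.smul_apply, smul_eq_mul, hquad, hl1,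
        hl2, mul_zero, add_zero]
      rcases eq_or_ne l k₀ with rfl | hne
      · rw [show m + k₀ = n - 1 by omega, hτ]
        have hb : b ≠ 0 := h1
        have h22 := h.two
        field_simp
        ring
      · rw [h2 l (by omega), h.deep (show n ≤ m + l by omega), map_zero]
        simp

/-- Canonical generators. -/
theorem exists_canonical (v w : X.V) (hvw : X.B v ((A ^ (n - 1)) w) ≠ 0) :
    ∃ v' w', (∀ k, X.B v' ((A ^ k) v') = 0) ∧ (∀ k, X.B w' ((A ^ k) w') = 0) ∧
      ∀ k, X.B v' ((A ^ k) w') = if k + 1 = n then 1 else 0 := by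
  have heven : Even (n - 1) := by
    obtain ⟨d, hd⟩ := h.odd
    exact ⟨d, by omega⟩
  have hn : 0 < n := h.odd.pos
  obtain ⟨v', hv1, hv2⟩ := h.exists_iso v w hvw
  have hflip : ∀ x y, X.B y ((A ^ (n - 1)) x) = -X.B x ((A ^ (n - 1)) y) := fun x y => by
    rw [h.flip, heven.neg_one_pow, one_mul]
  obtain ⟨w₁, hw1, hw2⟩ := h.exists_iso w v' (by rw [hflip]; exact neg_ne_zero.mpr hv1)
  rw [hflip, neg_ne_zero] at hw1
  suffices ∀ t, ∃ w', (∀ k, X.B w' ((A ^ k) w') = 0) ∧ X.B v' ((A ^ (n - 1)) w') = 1 ∧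
      ∀ k, k + 1 < n → n ≤ k + 1 + t → X.B v' ((A ^ k) w') = 0 by
    obtain ⟨w', h1, h2, h3⟩ := this n
    refine ⟨v', w', hv2, h1, fun k => ?_⟩
    split_ifs with hk
    · rw [show k = n - 1 by omega, h2]
    · rcases lt_or_ge (k + 1) n with hlt | hge
      · exact h3 k hlt (by omega)
      · rw [h.deep (by omega), map_zero]
  intro t
  induction t with
  | zero =>
    refine ⟨(X.B v' ((A ^ (n - 1)) w₁))⁻¹ • w₁, fun k => ?_, ?_, fun k h1 h2 => absurd h2 (by omega)⟩
    · simp [hw2]
    · rw [map_smul, map_smul, smul_eq_mul, inv_mul_cancel₀ hw1]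
  | succ t ih =>
    obtain ⟨w', h1, h2, h3⟩ := ih
    set τ := -X.B v' ((A ^ (n - 1 - (t + 1))) w') with hτ
    refine ⟨w' + τ • (A ^ (t + 1)) w', fun k => ?_, ?_, fun k hk1 hk2 => ?_⟩
    · simp only [map_add, map_smul, LinearMap.add_apply, LinearMap.smul_apply, smul_eq_mul]
      rw [← Module.End.mul_apply, ← pow_add, h.move, h.move, h1, h1, h1, h1]
      simp
    · rw [map_add, map_smul, ← Module.End.mul_apply, ← pow_add,
        h.deep (show n ≤ n - 1 + (t + 1) by omega), smul_zero, add_zero, h2]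
    · rw [map_add, map_smul, ← Module.End.mul_apply, ← pow_add, map_add, map_smul, smul_eq_mul]
      rcases eq_or_ne (k + (t + 1)) (n - 1) with he | hne
      · rw [he, h2, hτ, show n - 1 - (t + 1) = k by omega, mul_one, add_neg_cancel]
      · rw [h3 k hk1 (by omega), h.deep (show n ≤ k + (t + 1) by omega), map_zero, mul_zero, add_zero]

end SkewNil

end CfsgLib.OreSp
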