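import Cfsg.Agent.OreSp.Unipotent
import Cfsg.Agent.OreSp.SkewBasis
import Cfsg.Agent.OreSL.Scalar
import Mathlib.Algebra.CharP.Lemmas
import Mathlib.LinearAlgebra.Basis.Bilinear
import Mathlib.LinearAlgebra.Matrix.BilinearForm

/-!
# The negative of a pair of odd unipotent blocks is a commutator
-/

set_option autoImplicit false

namespace CfsgLib.OreSp

open LinearMap Submodule Polynomial

universe v w

variable {F : Type v} [Field F]

/-- A form-preserving endomorphism is invertible. -/
noncomputable def isomEquiv (X : Space.{v, w} F) (T : Module.End F X.V)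
    (hT : ∀ x y, X.B (T x) (T y) = X.B x y) : X.V ≃ₗ[F] X.V :=
  LinearEquiv.ofBijective T (by
    have hinj : Function.Injective T := (injective_iff_map_eq_zero T).mpr fun x hx =>
      X.nd x fun y => by rw [← hT, hx, map_zero, LinearMap.zero_apply]
    exact ⟨hinj, LinearMap.injective_iff_surjective.mp hinj⟩)

theorem isomEquiv_apply (X : Space.{v, w} F) (T : Module.End F X.V)
    (hT : ∀ x y, X.B (T x) (T y) = X.B x y) (x : X.V) : isomEquiv X T hT x = T x := rfl

theorem comm_neg_of_blocks [Fintype F] {X : Space.{v, w} F} (hX : Indec X) {n : ℕ} {v₀ w₀ : X.V}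
    (hb : Blocks X n v₀ w₀) (hn : Odd n) (h2 : (2 : F) ≠ 0) : Comm X.neg := by
  classical
  -- the Cayley transform
  have h2X : (2 + Polynomial.X : F[X]).coeff 0 ≠ 0 := by simpa using h2
  obtain ⟨a, c, hac⟩ := coprime_X_pow h2X n
  have hc : aeval X.N c * (2 + X.N) = 1 := by
    have := congrArg (aeval X.N) hac
    rw [map_add, map_mul, hb.aeval_eq_zero dvd_rfl, mul_zero, zero_add, map_mul, map_one, map_add,
      map_ofNat, aeval_X] at this
    exact this
  set A := aeval X.N (Polynomial.X * c) with hAdef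
  have hAN : A * (2 + X.N) = X.N := by rw [hAdef, map_mul, aeval_X, mul_assoc, hc, mul_one]
  have hsurj : ∀ x, ∃ x', x = (2 + X.N : Module.End F X.V) x' := fun x =>
    ⟨aeval X.N c x, by rw [← Module.End.mul_apply, mul_eq_one_comm.mp hc, Module.End.one_apply]⟩
  have hskew : SkewNil X A n := by
    refine ⟨fun x y => ?_, ?_, hn, h2⟩
    · obtain ⟨x', rfl⟩ := hsurj x
      obtain ⟨y', rfl⟩ := hsurj y
      rw [← Module.End.mul_apply, ← Module.End.mul_apply A, hAN]
      have htwo : ∀ z, (2 + X.N : Module.End F X.V) z = X.g z + z := fun z => by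
        rw [LinearMap.add_apply, X.N_apply, ← one_add_one_eq_two, LinearMap.add_apply,
          Module.End.one_apply]
        abel
      simp only [htwo, X.N_apply, map_add, map_sub, LinearMap.add_apply, LinearMap.sub_apply, X.isom]
      ring
    · rw [hAdef, ← map_pow]
      exact hb.aeval_eq_zero (by rw [mul_pow]; exact dvd_mul_right _ _)
  have heven : Even (n - 1) := by
    obtain ⟨d, hd⟩ := hn
    exact ⟨d, by omega⟩
  have htop : X.B v₀ ((A ^ (n - 1)) w₀) ≠ 0 := by
    have h1 := hb.pair_eq (n - 1) 0 (by have := hb.pos; omega) (c ^ (n - 1)) v₀ w₀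
    rw [← mul_pow, map_pow, ← hAdef, pow_zero, Module.End.one_apply, heven.neg_one_pow, one_mul] at h1
    have h2' := hskew.move (n - 1) v₀ w₀ 0
    rw [pow_zero, Module.End.one_apply, add_zero, heven.neg_one_pow, one_mul, h1] at h2'
    rw [← h2', coeff_zero_eq_eval_zero, eval_pow]
    refine mul_ne_zero (pow_ne_zero _ ?_) hb.top
    intro h0
    have := congrArg (eval 0) hac
    rw [eval_add, eval_mul, eval_mul, eval_pow, eval_X, zero_pow hb.pos.ne', mul_zero, zero_add, h0,
      zero_mul, eval_one] at this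
    exact zero_ne_one this
  obtain ⟨v', w', hvv, hww, hvw⟩ := hskew.exists_canonical v₀ w₀ htop
  -- the basis
  set E : Fin 2 → ℕ → X.V := fun a k => (A ^ k) (![v', w'] a) with hE
  have hgram : ∀ a b k l, X.B (E a k) (E b l) =
      (-1) ^ k * if k + l + 1 = n then !![0, 1; -1, 0] a b else 0 := by
    intro a b k l
    rw [hE, hskew.move]
    congr 1
    fin_cases a <;> fin_cases b <;>
      simp only [Matrix.cons_val_zero, Matrix.cons_val_one, Matrix.of_apply, Matrix.cons_val',
        Matrix.empty_val', Matrix.cons_val_fin_one, hvv, hww, ite_self, hvw, Fin.zero_eta, Fin.mk_one]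
    rw [hskew.flip, hvw]
    split_ifs with hkl
    · rw [show k + l = n - 1 by omega, heven.neg_one_pow, one_mul]
    · simp
  let e : Fin 2 × Fin n → X.V := fun p => E p.1 p.2
  have hli : LinearIndependent F e := by
    refine Fintype.linearIndependent_iff.mpr fun f hf p => ?_
    obtain ⟨a, i⟩ := p
    have hp := congrArg (fun z => X.B z (E (1 - a) (n - 1 - i))) hf
    simp only [map_sum, map_smul, LinearMap.sum_apply, LinearMap.smul_apply, map_zero,
      LinearMap.zero_apply, smul_eq_mul, e, hgram] at hp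
    rw [Finset.sum_eq_single_of_mem (a, i) (Finset.mem_univ _)] at hp
    · have hi := i.2
      rw [if_pos (by dsimp; omega)] at hp
      have hne : ((-1 : F) ^ (i : ℕ) * !![0, 1; -1, 0] a (1 - a)) ≠ 0 := by
        refine mul_ne_zero (pow_ne_zero _ (neg_ne_zero.mpr one_ne_zero)) ?_
        fin_cases a <;> simp
      exact (mul_eq_zero.mp hp).resolve_right hne
    · rintro ⟨b, j⟩ - hne
      split_ifs with hh
      · have hi := i.2
        dsimp at hh ⊢
        obtain rfl : j = i := Fin.ext (by omega)
        have hba : b ≠ a := fun e => hne (by rw [e])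
        fin_cases a <;> fin_cases b <;> simp_all
      · simp
  have hn0 : 0 < n := hb.pos
  haveI : NeZero n := ⟨hn0.ne'⟩
  let bs : Module.Basis (Fin 2 × Fin n) F X.V := basisOfLinearIndependentOfCardEqFinrank hli (by
    rw [Fintype.card_prod, Fintype.card_fin, Fintype.card_fin, hb.finrank_eq hX])
  have hbs : ∀ p, bs p = E p.1 p.2 := fun p => by
    simp [bs, e]
  have hext : ∀ T T' : Module.End F X.V, (∀ a k, T (E a k) = T' (E a k)) → T = T' := fun T T' h =>
    bs.ext fun p => by rw [hbs, h]
  have hisom : ∀ T : Module.End F X.V,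
      (∀ a b k l, X.B (T (E a k)) (T (E b l)) = X.B (E a k) (E b l)) → ∀ x y, X.B (T x) (T y) = X.B x y := by
    intro T h x y
    have : X.B.compl₁₂ T T = X.B := LinearMap.ext_basis bs bs fun p q => by
      simp only [LinearMap.compl₁₂_apply, hbs, h]
    exact LinearMap.congr_fun (LinearMap.congr_fun this x) y
  have hdeep : ∀ a k, n ≤ k → E a k = 0 := fun a k hk => hskew.deep hk _
  -- the flip and the `SL₂` part
  let θ : Module.End F X.V := bs.constr F fun p => (-1 : F) ^ (p.2 : ℕ) • E p.1 p.2
  have hθ : ∀ a k, θ (E a k) = (-1 : F) ^ k • E a k := by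
    intro a k
    rcases lt_or_ge k n with hk | hk
    · have := bs.constr_basis F (fun p => (-1 : F) ^ (p.2 : ℕ) • E p.1 p.2) (a, ⟨k, hk⟩)
      rwa [hbs] at this
    · rw [hdeep a k hk, map_zero, smul_zero]
  let ι : Matrix (Fin 2) (Fin 2) F → Module.End F X.V := fun M =>
    bs.constr F fun p => M 0 p.1 • E 0 p.2 + M 1 p.1 • E 1 p.2
  have hι : ∀ M a k, ι M (E a k) = M 0 a • E 0 k + M 1 a • E 1 k := by
    intro M a k
    rcases lt_or_ge k n with hk | hk
    · have := bs.constr_basis F (fun p => M 0 p.1 • E 0 p.2 + M 1 p.1 • E 1 p.2) (a, ⟨k, hk⟩)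
      rwa [hbs] at this
    · rw [hdeep a k hk, hdeep 0 k hk, hdeep 1 k hk, map_zero]
      simp
  have hAE : ∀ a k, A (E a k) = E a (k + 1) := fun a k => by
    rw [hE, ← Module.End.mul_apply, ← pow_succ']
  have hθA : θ * A = -(A * θ) := hext _ _ fun a k => by
    rw [Module.End.mul_apply, LinearMap.neg_apply, Module.End.mul_apply, hAE, hθ, hθ, map_smul, hAE,
      pow_succ, mul_neg_one, neg_smul]
  have hιA : ∀ M, Commute (ι M) A := fun M => hext _ _ fun a k => by
    simp only [Module.End.mul_apply, hAE, hι, map_add, map_smul]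
  have hιθ : ∀ M, Commute (ι M) θ := fun M => hext _ _ fun a k => by
    simp only [Module.End.mul_apply, hι, hθ, map_add, map_smul]
    module
  have hθθ : θ * θ = 1 := hext _ _ fun a k => by
    rw [Module.End.mul_apply, hθ, map_smul, hθ, smul_smul, ← mul_pow, neg_one_mul, neg_neg, one_pow,
      one_smul, Module.End.one_apply]
  have hθI : ∀ x y, X.B (θ x) (θ y) = X.B x y := hisom θ fun a b k l => by
    rw [hθ, hθ, map_smul, map_smul, LinearMap.smul_apply, hgram]
    split_ifs with hkl
    · rw [smul_eq_mul, smul_eq_mul]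
      have h1 : (-1 : F) ^ l * (-1) ^ k = 1 := by
        rw [← pow_add, show l + k = n - 1 by omega, heven.neg_one_pow]
      linear_combination ((-1 : F) ^ k * !![0, 1; -1, 0] a b) * h1
    · simp
  have hιI : ∀ M : Matrix (Fin 2) (Fin 2) F, M 0 0 * M 1 1 - M 0 1 * M 1 0 = 1 →
      ∀ x y, X.B (ι M x) (ι M y) = X.B x y := by
    intro M hM
    refine hisom (ι M) fun a b k l => ?_
    simp only [hι, map_add, map_smul, LinearMap.add_apply, LinearMap.smul_apply, hgram, smul_eq_mul]
    split_ifs with hkl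
    · fin_cases a <;> fin_cases b <;> simp
      · ring
      · linear_combination ((-1 : F) ^ k) * hM
      · linear_combination (-((-1 : F) ^ k)) * hM
      · ring
    · simp
  -- the two generators
  obtain ⟨α, β, hαβ⟩ := OreSL.exists_norm_value (F := F)
    (fun hc => h2 (by
      haveI := (ringChar.eq_iff (R := F) (p := 2)).mp hc
      exact CharTwo.two_eq_zero)) (z := -1) (neg_ne_zero.mpr one_ne_zero) (-1)
  set I := ι !![0, -1; 1, 0]
  set J := ι !![α, β; β, -α]
  have hIJ : J * I = -(I * J) := hext _ _ fun a k => by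
    simp only [I, J, Module.End.mul_apply, LinearMap.neg_apply, hι, map_add, map_smul]
    fin_cases a <;> simp <;> module
  -- the square root
  set G := X.g.toLinearMap with hG
  have hGN : G = 1 + X.N := by rw [Space.N, add_sub_cancel]
  obtain ⟨p, _⟩ := CharP.exists F
  haveI : Fact p.Prime := ⟨CharP.char_is_prime F p⟩
  have hp2 : p ≠ 2 := by
    rintro rfl
    exact h2 CharTwo.two_eq_zero
  have hP : G ^ p ^ n = 1 := by
    have he : G = aeval X.N (1 + Polynomial.X : F[X]) := by rw [hGN, map_add, map_one, aeval_X]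
    rw [he, ← map_pow, add_pow_char_pow, one_pow, map_add, map_one, map_pow, aeval_X,
      pow_eq_zero_of_le (le_of_lt (Nat.lt_pow_self (Fact.out : p.Prime).one_lt)) hb.nil, add_zero]
  obtain ⟨jj, hjj⟩ : ∃ jj, p ^ n + 1 = 2 * jj := by
    obtain ⟨d, hd⟩ := ((Fact.out : p.Prime).odd_of_ne_two hp2).pow (n := n)
    exact ⟨d + 1, by omega⟩
  set H := G ^ jj
  have hHH : H * H = G := by
    rw [← pow_add, ← two_mul, ← hjj, pow_succ, hP, one_mul]
  have hA1 : IsUnit (1 - A) := IsNilpotent.isUnit_one_sub ⟨n, hskew.nil⟩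
  have hGA : G * (1 - A) = 1 + A := by
    have hcA : Commute X.N A := by
      rw [hAdef]
      nth_rewrite 1 [← aeval_X (R := F) X.N]
      exact (Commute.all _ _).map (aeval X.N)
    rw [hGN, mul_sub, mul_one, add_mul, one_mul, hcA.eq]
    nth_rewrite 1 [← hAN]
    rw [mul_add, mul_two]
    abel
  have hTGT : θ * G * θ * G = 1 := by
    apply hA1.mul_right_cancel
    rw [mul_assoc _ G, hGA, one_mul, mul_assoc (θ * G), show θ * (1 + A) = (1 - A) * θ by
      rw [mul_add, mul_one, hθA, sub_mul, one_mul, ← sub_eq_add_neg], ← mul_assoc (θ * G), mul_assoc θ G,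
      hGA, mul_add, mul_one, hθA, add_mul, neg_mul, mul_assoc A, hθθ, mul_one, sub_eq_add_neg]
  have hTHT : ∀ k, θ * G ^ k * θ * G ^ k = 1 := by
    intro k
    induction k with
    | zero => simp [hθθ]
    | succ k ih =>
      calc θ * G ^ (k + 1) * θ * G ^ (k + 1)
          = θ * G ^ k * (θ * θ) * G * θ * (G * G ^ k) := by rw [hθθ, mul_one, pow_succ]; nth_rewrite 2 [← pow_succ]; rw [pow_succ']; simp only [mul_assoc]
        _ = θ * G ^ k * θ * (θ * G * θ * G) * G ^ k := by simp only [mul_assoc]
        _ = 1 := by rw [hTGT, mul_one, ih]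
  have hcG : ∀ {T : Module.End F X.V}, Commute T A → Commute T G := fun {T} hT => by
    apply hA1.mul_right_cancel
    rw [mul_assoc, hGA, mul_assoc, ((Commute.one_right T).sub_right hT).eq, ← mul_assoc, hGA,
      ((Commute.one_right T).add_right hT).eq]
  have hHI : ∀ x y, X.B (H x) (H y) = X.B x y := by
    have : ∀ k x y, X.B ((G ^ k) x) ((G ^ k) y) = X.B x y := by
      intro k
      induction k with
      | zero => simp
      | succ k ih => exact fun x y => by rw [pow_succ', Module.End.mul_apply, Module.End.mul_apply, hG,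
          LinearEquiv.coe_coe, X.isom, ← hG, ih]
    exact this jj
  have hII := hιI !![0, -1; 1, 0] (by simp)
  have hJJ := hιI !![α, β; β, -α] (by simp; linear_combination -hαβ)
  have hxI : ∀ x y, X.B ((I * θ) x) ((I * θ) y) = X.B x y := fun x y => (hII _ _).trans (hθI _ _)
  have hyI : ∀ x y, X.B ((J * θ * H) x) ((J * θ * H) y) = X.B x y := fun x y =>
    ((hJJ _ _).trans (hθI _ _)).trans (hHI _ _)
  refine ⟨isomEquiv X _ hxI, isomEquiv X _ hyI, hxI, hyI, fun v => ?_⟩
  show -G ((J * θ * H) ((I * θ) v)) = (I * θ) ((J * θ * H) v)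
  rw [← Module.End.mul_apply, ← Module.End.mul_apply, ← Module.End.mul_apply, ← LinearMap.neg_apply]
  congr 1
  have hGJ : G * J = J * G := (hcG (hιA _)).eq.symm
  have hGI : G * I = I * G := (hcG (hιA _)).eq.symm
  have hHI' : H * I = I * H := ((hcG (hιA _)).pow_right jj).eq.symm
  have hinv : H * (θ * H * θ) = 1 := mul_eq_one_comm.mp (hTHT jj)
  have hIT : I * θ = θ * I := (hιθ _).eq
  have hJT : J * θ = θ * J := (hιθ _).eq
  calc -(G * (J * θ * H * (I * θ))) = -(G * (J * (θ * (H * I) * θ))) := by simp only [mul_assoc]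
    _ = -(G * (J * (θ * I * (H * θ)))) := by rw [hHI']; simp only [mul_assoc]
    _ = -(G * J * I * (θ * H * θ)) := by rw [← hIT]; simp only [mul_assoc]
    _ = -(J * I * (G * (θ * H * θ))) := by rw [hGJ, mul_assoc J G, hGI]; simp only [mul_assoc]
    _ = -(J * I * H) := by rw [← hHH, mul_assoc H H, hinv, mul_one]
    _ = I * J * H := by rw [hIJ, neg_mul, neg_neg]
    _ = I * (θ * θ) * J * H := by rw [hθθ, mul_one]
    _ = I * θ * (J * θ * H) := by rw [hJT]; simp only [mul_assoc]

end CfsgLib.OreSp
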