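import Cfsg.Agent.OreSp.UnipotentGood
import Cfsg.Agent.OreSp.NegUnipotent

/-!
# The decomposition of a symplectic space with an isometry
-/

set_option autoImplicit false

namespace CfsgLib.OreSp

open LinearMap Submodule

universe v w

variable {F : Type v} [Field F]

/-- The zero space. -/
noncomputable abbrev zeroSpace : Space.{v, w} F where
  V := PUnit.{w + 1}
  B := 0
  alt _ := rfl
  nd x _ := Subsingleton.elim x 0
  g := LinearEquiv.refl F _
  isom _ _ := rfl

theorem finrank_zeroSpace : Module.finrank F (zeroSpace : Space.{v, w} F).V = 0 :=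
  Module.finrank_zero_of_subsingleton

theorem iso_prod_zero (X : Space.{v, w} F) : Iso X (X.prod zeroSpace) :=
  ⟨{ toFun := fun x => (x, 0)
     invFun := fun p => p.1
     left_inv := fun _ => rfl
     right_inv := fun p => Prod.ext rfl (Subsingleton.elim _ _)
     map_add' := fun _ _ => Prod.ext rfl (Subsingleton.elim _ _)
     map_smul' := fun _ _ => Prod.ext rfl (Subsingleton.elim _ _) },
    fun a b => by simp [Space.prod_B], fun a => rfl⟩

theorem subsingleton_of_finrank {X : Space.{v, w} F} (h : Module.finrank F X.V = 0) : Subsingleton X.V :=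
  Module.finrank_zero_iff.mp h

theorem comm_of_finrank_zero {X : Space.{v, w} F} (h : Module.finrank F X.V = 0) : Comm X :=
  haveI := subsingleton_of_finrank h
  comm_of_eq_id X fun _ => Subsingleton.elim _ _

theorem good_of_finrank_zero {X : Space.{v, w} F} (h : Module.finrank F X.V = 0) : Good X :=
  haveI := subsingleton_of_finrank h
  ⟨⊥, fun a ha b _ => by rw [(Submodule.mem_bot F).mp ha]; simp, by rw [finrank_bot, h],
    fun l _ => Subsingleton.elim (0 : X.V) (X.s l) ▸ Submodule.zero_mem _,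
    fun l _ _ => Subsingleton.elim _ _⟩

/-- The good part of a decomposition. -/
def GoodPart (G : Space.{v, w} F) : Prop :=
  Good G ∧ (4 ≤ Module.finrank F G.V ∨ Comm G ∨ Good G.neg)

/-- The rest of a decomposition. -/
def RestPart (M : Space.{v, w} F) : Prop :=
  Comm M ∧ (Module.finrank F M.V = 0 ∨ ∃ (P R : Space.{v, w} F) (n : ℕ), Iso M (P.prod R) ∧ Comm R ∧
    (2 : F) ≠ 0 ∧ Good P.neg ∧ Module.finrank F P.V = 2 * n ∧ Odd n ∧ (n = 1 → ∀ x, P.g x = -x))

theorem Comm.iso_neg_neg {X : Space.{v, w} F} (h : Comm X.neg.neg) : Comm X :=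
  h.of_iso ⟨LinearEquiv.refl F _, fun _ _ => rfl, fun a => by
    show -(-X.g a) = X.g a
    rw [neg_neg]⟩

theorem Indec.neg {X : Space.{v, w} F} (h : Indec X) : Indec X.neg :=
  ⟨h.1, fun W hW hn => h.2 W (fun x hx => by simpa [Space.neg_g_apply] using W.neg_mem (hW x hx)) hn⟩

theorem dim_even_of_good {X : Space.{v, w} F} (h : Good X) : Even (Module.finrank F X.V) := by
  obtain ⟨L, -, hd, -⟩ := h
  exact ⟨_, hd.trans (two_mul _)⟩

/-- The classification of indecomposable spaces. -/
theorem split_indec [Fintype F] {X : Space.{v, w} F} (hX : Indec X) :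
    (∃ G M : Space.{v, w} F, Iso X (G.prod M) ∧ GoodPart G ∧ RestPart M) := by
  classical
  have asGood : GoodPart X → ∃ G M : Space.{v, w} F, Iso X (G.prod M) ∧ GoodPart G ∧ RestPart M :=
    fun h => ⟨X, zeroSpace, iso_prod_zero X, h,
      comm_of_finrank_zero finrank_zeroSpace, Or.inl finrank_zeroSpace⟩
  have hone : ∀ (e : ℕ), (X.s - (2 : F) • 1) ^ (e + 1) = 0 → (X.s - (2 : F) • 1) ^ e ≠ 0 →
      (∀ x, X.B (((X.s - (2 : F) • 1) ^ e) x) (X.g x) = 0) → GoodPart X := by
    intro e h1 h2 h3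
    obtain ⟨n, v₀, w₀, hb, hn, -⟩ := exists_blocks e h1 h2 h3
    refine ⟨hb.good hX e hn, ?_⟩
    rw [hb.finrank_eq hX]
    rcases eq_or_ne n 1 with rfl | hn1
    · refine Or.inr (Or.inl (comm_of_eq_id X fun x => ?_))
      have := LinearMap.congr_fun hb.nil x
      rw [pow_one, LinearMap.zero_apply, X.N_apply] at this
      exact sub_eq_zero.mp this
    · left
      have := hb.pos
      omega
  rcases hX.dichotomy with hgood | ⟨ε, e, hε, h1, h2, h3⟩
  · exact asGood ⟨hgood.1, Or.inr (Or.inr hgood.2)⟩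
  rcases mul_self_eq_one_iff.mp hε with rfl | rfl
  · rw [mul_one] at h1 h2 h3
    exact asGood (hone e h1 h2 h3)
  by_cases htwo : (2 : F) = 0
  · rw [mul_neg, mul_one, show (-(2 : F)) = 2 by rw [htwo, neg_zero]] at h1 h2 h3
    exact asGood (hone e h1 h2 h3)
  -- the negative is unipotent
  have hneg : ∀ k, (X.neg.s - (2 : F) • 1) ^ k = (-1 : F) ^ k • (X.s - (2 * -1 : F) • 1) ^ k := by
    intro k
    rw [← smul_pow]
    congr 1
    refine LinearMap.ext fun x => ?_
    show X.neg.s x - (2 : F) • x = (-1 : F) • (X.s x - (2 * -1 : F) • x)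
    rw [X.neg_s_apply]
    module
  obtain ⟨n, v₀, w₀, hb, hn, hodd⟩ := exists_blocks (X := X.neg) e (by rw [hneg, h1, smul_zero])
    (by rw [hneg]; exact smul_ne_zero (pow_ne_zero _ (neg_ne_zero.mpr one_ne_zero)) h2)
    (fun x => by
      rw [hneg]
      show X.B ((-1 : F) ^ e • ((X.s - (2 * -1 : F) • 1) ^ e) x) (-X.g x) = 0
      rw [map_smul, LinearMap.smul_apply, map_neg, h3, neg_zero, smul_zero])
  have hno : Odd n := ⟨e, hodd htwo⟩
  have hX' := hX.neg
  have hcomm : Comm X := Comm.iso_neg_neg (comm_neg_of_blocks hX' hb hno htwo)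
  refine ⟨zeroSpace, X, (iso_prod_zero X).trans (iso_prod_comm _ _),
    ⟨good_of_finrank_zero finrank_zeroSpace, Or.inr (Or.inl (comm_of_finrank_zero finrank_zeroSpace))⟩,
    hcomm, Or.inr ⟨X, zeroSpace, n, iso_prod_zero X, comm_of_finrank_zero finrank_zeroSpace, htwo,
      hb.good hX' e hn, hb.finrank_eq hX', hno, fun hn1 x => ?_⟩⟩
  subst hn1
  have := LinearMap.congr_fun hb.nil x
  rw [pow_one, LinearMap.zero_apply, Space.N_apply, sub_eq_zero, Space.neg_g_apply] at this
  exact neg_eq_iff_eq_neg.mp this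

theorem GoodPart.prod {G G' : Space.{v, w} F} (h : GoodPart G) (h' : GoodPart G') :
    GoodPart (G.prod G') := by
  refine ⟨h.1.prod h'.1, ?_⟩
  rw [finrank_prod_space]
  obtain ⟨a, ha⟩ := dim_even_of_good h.1
  obtain ⟨b, hb⟩ := dim_even_of_good h'.1
  by_cases ha0 : Module.finrank F G.V = 0
  · rcases h'.2 with h4 | hc | hg
    · exact Or.inl (by omega)
    · exact Or.inr (Or.inl ((comm_of_finrank_zero ha0).prod hc))
    · exact Or.inr (Or.inr (((good_of_finrank_zero (X := G.neg) ha0).prod hg).of_iso (iso_neg_prod G G')))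
  by_cases hb0 : Module.finrank F G'.V = 0
  · rcases h.2 with h4 | hc | hg
    · exact Or.inl (by omega)
    · exact Or.inr (Or.inl (hc.prod (comm_of_finrank_zero hb0)))
    · exact Or.inr (Or.inr ((hg.prod (good_of_finrank_zero (X := G'.neg) hb0)).of_iso (iso_neg_prod G G')))
  · left
    omega

theorem RestPart.prod {M M' : Space.{v, w} F} (h : RestPart M) (h' : RestPart M') :
    RestPart (M.prod M') := by
  refine ⟨h.1.prod h'.1, ?_⟩
  rw [finrank_prod_space]
  rcases h.2 with h0 | ⟨P, R, n, hi, hR, hrest⟩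
  · rcases h'.2 with h0' | ⟨P, R, n, hi, hR, hrest⟩
    · exact Or.inl (by omega)
    · exact Or.inr ⟨P, R.prod M, n, ((iso_prod_comm M M').trans (hi.prod (Iso.refl M))).trans
        (iso_prod_assoc P R M), hR.prod h.1, hrest⟩
  · exact Or.inr ⟨P, R.prod M', n, (hi.prod (Iso.refl M')).trans (iso_prod_assoc P R M'),
      hR.prod h'.1, hrest⟩

theorem iso_prod_shuffle (A B C D : Space.{v, w} F) :
    Iso ((A.prod B).prod (C.prod D)) ((A.prod C).prod (B.prod D)) :=
  ⟨LinearEquiv.prodProdProdComm F A.V B.V C.V D.V,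
    fun a b => add_add_add_comm _ _ _ _, fun _ => rfl⟩

/-- Every space splits into a good part and a rest. -/
theorem exists_split_space [Fintype F] (X : Space.{v, w} F) :
    ∃ G M : Space.{v, w} F, Iso X (G.prod M) ∧ GoodPart G ∧ RestPart M := by
  suffices ∀ (d : ℕ) (X : Space.{v, w} F), Module.finrank F X.V = d →
      ∃ G M : Space.{v, w} F, Iso X (G.prod M) ∧ GoodPart G ∧ RestPart M from this _ X rfl
  intro d
  induction d using Nat.strong_induction_on with
  | _ d ih =>
    intro X hd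
    rcases Nat.eq_zero_or_pos d with rfl | hpos
    · exact ⟨X, zeroSpace, iso_prod_zero X,
        ⟨good_of_finrank_zero hd, Or.inr (Or.inl (comm_of_finrank_zero hd))⟩,
        comm_of_finrank_zero finrank_zeroSpace, Or.inl finrank_zeroSpace⟩
    by_cases hX : Indec X
    · exact split_indec hX
    simp only [Indec, not_and, not_forall, not_or] at hX
    obtain ⟨W, hW, hn, hb, ht⟩ := hX (hd ▸ hpos)
    obtain ⟨Y, hi, hdim⟩ := exists_iso_prod X W hW hn
    have h1 : 0 < Module.finrank F W := Nat.pos_of_ne_zero fun h => hb (Submodule.finrank_eq_zero.mp h)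
    have h2 : Module.finrank F W < d := hd ▸ Submodule.finrank_lt ht
    obtain ⟨G, M, i1, g1, r1⟩ := ih _ h2 (X.res W hW hn) rfl
    obtain ⟨G', M', i2, g2, r2⟩ := ih _ (by omega) Y rfl
    exact ⟨G.prod G', M.prod M', (hi.trans (i1.prod i2)).trans (iso_prod_shuffle G M G' M'),
      g1.prod g2, r1.prod r2⟩

end CfsgLib.OreSp
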