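import Cfsg.Agent.OreSp.Trick
import Mathlib.RingTheory.Polynomial.UniqueFactorization
import Mathlib.FieldTheory.Minpoly.Field
import Mathlib.Tactic.Module
import Mathlib.Tactic.LinearCombination

/-!
# Indecomposable symplectic spaces with an isometry

Such a space is either spanned by an isotropic cyclic subspace of `g + g⁻¹` and its image, or
`g + g⁻¹` has the single eigenvalue `±2` and the top power of the nilpotent part is degenerate.
-/

set_option autoImplicit false

namespace CfsgLib.OreSp

open LinearMap Submodule Polynomial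

universe v w

variable {F : Type v} [Field F] (X : Space.{v, w} F)

/-- No proper non-zero non-degenerate invariant subspace. -/
def Indec : Prop :=
  0 < Module.finrank F X.V ∧ ∀ W : Submodule F X.V, (∀ x ∈ W, X.g x ∈ W) →
    (∀ x ∈ W, (∀ y ∈ W, X.B x y = 0) → x = 0) → W = ⊥ ∨ W = ⊤

theorem aeval_s_adj (r : F[X]) (x y : X.V) :
    X.B (aeval X.s r x) y = X.B x (aeval X.s r y) := by
  induction r using Polynomial.induction_on' with
  | add p q hp hq => simp only [map_add, LinearMap.add_apply, hp, hq]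
  | monomial k a =>
    simp only [aeval_monomial, ← Algebra.smul_def, LinearMap.smul_apply, map_smul]
    congr 1
    induction k generalizing y with
    | zero => rfl
    | succ k ih =>
      rw [pow_succ', Module.End.mul_apply, Module.End.mul_apply, X.s_adj, ih,
        ← Module.End.mul_apply (X.s ^ k), ← pow_succ, pow_succ', Module.End.mul_apply]

theorem aeval_s_comm (r : F[X]) (x : X.V) : aeval X.s r (X.g x) = X.g (aeval X.s r x) := by
  induction r using Polynomial.induction_on' with
  | add p q hp hq => simp only [map_add, LinearMap.add_apply, hp, hq]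
  | monomial k a =>
    simp only [aeval_monomial, ← Algebra.smul_def, LinearMap.smul_apply, map_smul]
    congr 1
    induction k generalizing x with
    | zero => rfl
    | succ k ih => rw [pow_succ, Module.End.mul_apply, Module.End.mul_apply, X.s_comm, ih]

theorem aeval_s_alt (r : F[X]) (x : X.V) : X.B (aeval X.s r x) x = 0 := by
  induction r using Polynomial.induction_on' with
  | add p q hp hq => simp only [map_add, LinearMap.add_apply, hp, hq, add_zero]
  | monomial k a =>
    simp only [aeval_monomial, ← Algebra.smul_def, LinearMap.smul_apply, map_smul]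
    have hpow : ∀ j y z, X.B ((X.s ^ j) y) z = X.B y ((X.s ^ j) z) := fun j y z => by
      simpa using aeval_s_adj X (Polynomial.X ^ j) y z
    rcases Nat.even_or_odd' k with ⟨j, rfl | rfl⟩
    · rw [two_mul, pow_add, Module.End.mul_apply, hpow, X.alt, smul_zero]
    · rw [two_mul, add_assoc, pow_add, Module.End.mul_apply, hpow, pow_succ', Module.End.mul_apply,
        X.s_apply, map_add, LinearMap.add_apply, X.adj', X.swap ((X.s ^ j) x) (X.g _), neg_add_cancel,
        smul_zero]

/-- An indecomposable space has a primary `g + g⁻¹`. -/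
theorem Indec.exists_primary {X : Space.{v, w} F} (hX : Indec X) :
    ∃ (π : F[X]) (e : ℕ), Irreducible π ∧ aeval X.s (π ^ (e + 1)) = 0 ∧ aeval X.s (π ^ e) ≠ 0 := by
  classical
  haveI : Nontrivial X.V := Module.nontrivial_of_finrank_pos hX.1
  have hint : IsIntegral F X.s := Algebra.IsIntegral.isIntegral X.s
  set f := minpoly F X.s
  have hf0 : f ≠ 0 := minpoly.ne_zero hint
  obtain ⟨π, hπ, hπf⟩ := WfDvdMonoid.exists_irreducible_factor (minpoly.not_isUnit F X.s) hf0
  obtain ⟨r, hr, hπr⟩ :=
    (FiniteMultiplicity.of_not_isUnit hπ.not_isUnit hf0).exists_eq_pow_mul_and_not_dvd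
  set d := multiplicity π f
  obtain ⟨a, b, hab⟩ := (hπ.coprime_iff_not_dvd.mpr hπr).pow_left (m := d)
  set W := LinearMap.ker (aeval X.s (π ^ d))
  have hW : W = ⊤ := by
    refine (hX.2 W (fun x hx => ?_) (fun x hx h => ?_)).resolve_left fun hbot => ?_
    · rw [LinearMap.mem_ker] at hx ⊢
      rw [aeval_s_comm, hx, map_zero]
    · refine X.nd x fun y => ?_
      have hy : y = aeval X.s (a * π ^ d) y + aeval X.s (b * r) y := by
        rw [← LinearMap.add_apply, ← map_add, hab, map_one, Module.End.one_apply]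
      have h1 : X.B x (aeval X.s (a * π ^ d) y) = 0 := by
        rw [mul_comm, map_mul, Module.End.mul_apply, ← aeval_s_adj, LinearMap.mem_ker.mp hx, map_zero,
          LinearMap.zero_apply]
      rw [hy, map_add, h1, zero_add]
      refine h _ ?_
      rw [LinearMap.mem_ker, ← Module.End.mul_apply, ← map_mul,
        show π ^ d * (b * r) = b * f by rw [hr]; ring, map_mul, minpoly.aeval, mul_zero,
        LinearMap.zero_apply]
    · have hr0 : aeval X.s r = 0 := by
        refine LinearMap.ext fun x => ?_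
        have hx : aeval X.s r x ∈ W := by
          rw [LinearMap.mem_ker, ← Module.End.mul_apply, ← map_mul, ← hr, minpoly.aeval,
            LinearMap.zero_apply]
        rwa [hbot, Submodule.mem_bot] at hx
      exact hπr (hπf.trans (minpoly.dvd F X.s hr0))
  have hex : ∃ e, aeval X.s (π ^ e) = 0 := ⟨d, LinearMap.ker_eq_top.mp hW⟩
  have h0 : Nat.find hex ≠ 0 := fun h => by
    have h1 := Nat.find_spec hex
    rw [h, pow_zero, map_one] at h1
    exact one_ne_zero h1
  obtain ⟨e, he⟩ := Nat.exists_eq_succ_of_ne_zero h0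
  exact ⟨π, e, hπ, by rw [← Nat.succ_eq_add_one, ← he]; exact Nat.find_spec hex,
    Nat.find_min hex (by omega)⟩

/-- The dichotomy for indecomposable spaces. -/
theorem Indec.dichotomy {X : Space.{v, w} F} (hX : Indec X) :
    (Good X ∧ Good X.neg) ∨ ∃ (ε : F) (e : ℕ), ε * ε = 1 ∧
      (X.s - (2 * ε) • 1) ^ (e + 1) = 0 ∧ (X.s - (2 * ε) • 1) ^ e ≠ 0 ∧
      ∀ x, X.B (((X.s - (2 * ε) • 1) ^ e) x) (X.g x) = 0 := by
  classical
  obtain ⟨π, e, hπ, hπe, hπe'⟩ := hX.exists_primary
  -- the annihilator
  have hann : ∀ h : F[X], aeval X.s h = 0 → π ^ (e + 1) ∣ h := by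
    intro h hh
    by_contra hn
    have h0 : h ≠ 0 := fun e => hn (e ▸ dvd_zero _)
    obtain ⟨u, hu, hπu⟩ :=
      (FiniteMultiplicity.of_not_isUnit hπ.not_isUnit h0).exists_eq_pow_mul_and_not_dvd
    set i := multiplicity π h
    have hi : i ≤ e := by
      by_contra hi
      exact hn (hu ▸ Dvd.dvd.mul_right (pow_dvd_pow π (by omega)) _)
    obtain ⟨a, b, hab⟩ := (hπ.coprime_iff_not_dvd.mpr hπu).pow_left (m := e + 1)
    apply hπe'
    have h1 := congrArg (fun t => aeval X.s (π ^ e * t)) hab
    simp only [mul_one] at h1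
    rw [← h1, show π ^ e * (a * π ^ (e + 1) + b * u) =
      π ^ e * a * π ^ (e + 1) + π ^ (e - i) * b * (π ^ i * u) by
        rw [mul_add, show π ^ e = π ^ (e - i) * π ^ i by rw [← pow_add, Nat.sub_add_cancel hi]]
        ring, ← hu]
    simp only [map_add, map_mul, hπe, hh, mul_zero, add_zero]
  by_cases hA : ∃ v p, X.B (aeval X.s (π ^ e * p) v) (X.g v) ≠ 0
  · left
    obtain ⟨v, p, hvp⟩ := hA
    let ev : F[X] →ₗ[F] X.V := (LinearMap.applyₗ v) ∘ₗ (aeval X.s).toLinearMap
    have hev : ∀ r, ev r = aeval X.s r v := fun _ => rfl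
    have hiso : ∀ r a, X.B (ev r) (ev a) = 0 := fun r a => by
      rw [hev, hev, ← aeval_s_adj, ← Module.End.mul_apply, ← map_mul]
      exact aeval_s_alt X _ v
    have hpair : ∀ r a, X.B (ev r) (X.g (ev a)) = X.B (aeval X.s (a * r) v) (X.g v) := fun r a => by
      rw [hev, hev, ← aeval_s_comm, ← aeval_s_adj, ← Module.End.mul_apply, ← map_mul]
    -- non-degeneracy of the functional
    have hfun : ∀ r, (∀ a, X.B (aeval X.s (a * r) v) (X.g v) = 0) → ev r = 0 := by
      intro r hr
      by_contra hr0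
      have h0 : r ≠ 0 := fun e => hr0 (by rw [e, map_zero])
      obtain ⟨u, hu, hπu⟩ :=
        (FiniteMultiplicity.of_not_isUnit hπ.not_isUnit h0).exists_eq_pow_mul_and_not_dvd
      set i := multiplicity π r
      have hi : i ≤ e := by
        by_contra hi
        obtain ⟨c, hc⟩ := pow_dvd_pow π (show e + 1 ≤ i by omega)
        exact hr0 (by rw [hev, hu, hc, map_mul, map_mul, hπe, zero_mul, zero_mul]; rfl)
      obtain ⟨a, b, hab⟩ := (hπ.coprime_iff_not_dvd.mpr hπu).pow_left (m := e + 1)
      apply hvp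
      have h1 := congrArg (fun t => π ^ e * p * t) hab
      simp only [mul_one] at h1
      rw [← h1, show π ^ e * p * (a * π ^ (e + 1) + b * u) =
        π ^ e * p * a * π ^ (e + 1) + π ^ (e - i) * p * b * (π ^ i * u) by
          rw [mul_add, show π ^ e = π ^ (e - i) * π ^ i by rw [← pow_add, Nat.sub_add_cancel hi]]
          ring, ← hu, map_add, map_mul, hπe, mul_zero, zero_add]
      exact hr _
    set U := LinearMap.range ev
    set U' := U.map X.g.toLinearMap
    have hsplit : ∀ r r', (∀ a, X.B (ev r + X.g (ev r')) (ev a) = 0) →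
        (∀ a, X.B (ev r + X.g (ev r')) (X.g (ev a)) = 0) → ev r = 0 ∧ ev r' = 0 := by
      intro r r' h1 h2
      constructor
      · refine hfun r fun a => ?_
        have := h2 a
        rwa [map_add, LinearMap.add_apply, X.isom, hiso, add_zero, hpair] at this
      · refine hfun r' fun a => ?_
        have := h1 a
        rw [map_add, LinearMap.add_apply, hiso, zero_add, X.swap, neg_eq_zero, hpair] at this
        rwa [mul_comm]
    have hdisj : U ⊓ U' = ⊥ := by
      refine eq_bot_iff.mpr ?_
      rintro _ ⟨⟨r, rfl⟩, _, ⟨r', rfl⟩, hr⟩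
      have h : ev r + X.g (ev (-r')) = 0 := by
        rw [map_neg, map_neg, ← sub_eq_add_neg, sub_eq_zero]
        exact hr.symm
      exact (Submodule.mem_bot F).mpr (hsplit r (-r')
        (fun a => by rw [h, map_zero, LinearMap.zero_apply])
        (fun a => by rw [h, map_zero, LinearMap.zero_apply])).1
    have hWg : ∀ x ∈ U ⊔ U', X.g x ∈ U ⊔ U' := by
      intro x hx
      obtain ⟨_, ⟨r, rfl⟩, _, ⟨_, ⟨r', rfl⟩, rfl⟩, rfl⟩ := Submodule.mem_sup.mp hx
      have h2 : X.g (X.g (ev r')) = X.g (ev (Polynomial.X * r')) - ev r' := by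
        rw [show ev (Polynomial.X * r') = X.s (ev r') by
          rw [hev, hev, map_mul, aeval_X, Module.End.mul_apply], X.s_apply, map_add,
          LinearEquiv.apply_symm_apply, add_sub_cancel_right]
      show X.g (ev r + X.g (ev r')) ∈ _
      rw [map_add, h2, add_sub_assoc']
      refine Submodule.sub_mem _ (Submodule.mem_sup_right ?_) (Submodule.mem_sup_left ⟨r', rfl⟩)
      exact ⟨ev r + ev (Polynomial.X * r'), U.add_mem ⟨r, rfl⟩ ⟨_, rfl⟩, map_add X.g.toLinearMap _ _⟩
    have hWn : ∀ x ∈ U ⊔ U', (∀ y ∈ U ⊔ U', X.B x y = 0) → x = 0 := by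
      intro x hx h
      obtain ⟨_, ⟨r, rfl⟩, _, ⟨_, ⟨r', rfl⟩, rfl⟩, rfl⟩ := Submodule.mem_sup.mp hx
      obtain ⟨h1, h2⟩ := hsplit r r' (fun a => h _ (Submodule.mem_sup_left ⟨a, rfl⟩))
        (fun a => h _ (Submodule.mem_sup_right ⟨_, ⟨a, rfl⟩, rfl⟩))
      show ev r + X.g (ev r') = 0
      rw [h1, h2, map_zero, add_zero]
    have htop : U ⊔ U' = ⊤ := (hX.2 _ hWg hWn).resolve_left fun hbot => hvp (by
      have hv : ev 1 ∈ U ⊔ U' := Submodule.mem_sup_left ⟨1, rfl⟩
      rw [hbot, Submodule.mem_bot, hev, map_one, Module.End.one_apply] at hv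
      rw [hv]; simp)
    have hd : Module.finrank F X.V = 2 * Module.finrank F U := by
      have h1 := Submodule.finrank_sup_add_finrank_inf_eq U U'
      rw [htop, hdisj, finrank_top, finrank_bot, LinearEquiv.finrank_map_eq X.g U] at h1
      omega
    have hIso : ∀ a ∈ U, ∀ b ∈ U, X.B a b = 0 := by
      rintro _ ⟨r, rfl⟩ _ ⟨a, rfl⟩
      exact hiso r a
    have hs : ∀ l ∈ U, X.s l ∈ U := by
      rintro _ ⟨r, rfl⟩
      exact ⟨Polynomial.X * r, by rw [hev, hev, map_mul, aeval_X, Module.End.mul_apply]⟩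
    have hmem : ∀ l ∈ U, X.g l ∈ U → l = 0 := fun l hl h => by
      have : X.g l ∈ U ⊓ U' := ⟨h, l, hl, rfl⟩
      rw [hdisj, Submodule.mem_bot] at this
      simpa using this
    refine ⟨⟨U, hIso, hd, hs, fun l hl h => ?_⟩, U, hIso, hd, fun l hl => ?_, fun l hl h => ?_⟩
    · rw [hmem l hl (by simpa using U.add_mem h hl), map_zero]
    · rw [Space.neg_s_apply]
      exact U.neg_mem (hs l hl)
    · have : l = 0 := hmem l hl (by
        rw [Space.neg_g_apply] at h
        simpa using U.neg_mem (U.add_mem h hl))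
      subst this
      simp
  · right
    push Not at hA
    set t := aeval X.s (π ^ e) with ht
    have ht1 : ∀ v, X.B (t v) (X.g v) = 0 := fun v => by simpa [ht] using hA v 1
    have htg : ∀ v, X.g (t v) = X.g.symm (t v) := by
      intro v
      refine (sub_eq_zero.mp (X.nd _ fun y => ?_)).symm
      have h := ht1 (v + y)
      simp only [map_add, LinearMap.add_apply, ht1, zero_add, add_zero] at h
      rw [map_sub, LinearMap.sub_apply, sub_eq_zero, X.adj', ← aeval_s_comm, ← ht]
      have h2 : X.B (t y) (X.g v) = -X.B (t (X.g v)) y := by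
        rw [ht, aeval_s_adj, X.swap]
      rw [h2] at h
      linear_combination h
    have hann' : aeval X.s ((Polynomial.X ^ 2 - C 4) * π ^ e) = 0 := by
      refine LinearMap.ext fun v => ?_
      rw [map_mul, Module.End.mul_apply, map_sub, LinearMap.sub_apply, map_pow, aeval_X, aeval_C,
        Module.algebraMap_end_apply, LinearMap.zero_apply, ← ht, pow_two, Module.End.mul_apply]
      have h2 : X.s (t v) = (2 : F) • X.g (t v) := by rw [X.s_apply, ← htg, two_smul]
      have h3 : X.g (X.g (t v)) = t v := by rw [htg, LinearEquiv.apply_symm_apply]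
      rw [h2, map_smul, X.s_comm, h2, map_smul, h3, smul_smul]
      norm_num
    have hπ4 : π ∣ Polynomial.X ^ 2 - C 4 := by
      have := hann _ hann'
      rw [pow_succ', mul_dvd_mul_iff_right (pow_ne_zero e hπ.ne_zero)] at this
      exact this
    rw [show (Polynomial.X ^ 2 - C (4 : F)) = (Polynomial.X - C (2 * 1)) * (Polynomial.X - C (2 * -1))
      by simp only [mul_one, mul_neg, map_neg, show (4 : F) = 2 * 2 by norm_num, map_mul]; ring] at hπ4
    obtain ⟨ε, hε, hπε⟩ : ∃ ε : F, ε * ε = 1 ∧ π ∣ Polynomial.X - C (2 * ε) :=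
      (hπ.prime.dvd_or_dvd hπ4).elim (fun h => ⟨1, one_mul 1, h⟩) (fun h => ⟨-1, by ring, h⟩)
    have hassoc : Associated π (Polynomial.X - C (2 * ε)) :=
      hπ.associated_of_dvd (Polynomial.irreducible_X_sub_C _) hπε
    have hM : ∀ k, aeval X.s ((Polynomial.X - C (2 * ε)) ^ k) = (X.s - (2 * ε) • 1) ^ k := fun k => by
      rw [map_pow, map_sub, aeval_X, aeval_C, Algebra.algebraMap_eq_smul_one]
    refine ⟨ε, e, hε, ?_, ?_, fun v => ?_⟩
    · obtain ⟨c, hc⟩ := (hassoc.pow_pow (n := e + 1)).dvd
      rw [← hM, hc, map_mul, hπe, zero_mul]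
    · intro h
      apply hπe'
      obtain ⟨c, hc⟩ := (hassoc.pow_pow (n := e)).dvd'
      rw [ht, hc, map_mul, hM, h, zero_mul]
    · obtain ⟨c, hc⟩ := (hassoc.pow_pow (n := e)).dvd
      rw [← hM, hc]
      exact hA v c

end CfsgLib.OreSp
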