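import Cfsg.Agent.OreSp.Atom

/-!
# Isometries of four-dimensional symplectic spaces

Up to sign, such an isometry has a Lagrangian frame in which the first diagonal block is the
identity, unless it is an involution, where the block can be a rotation by a right angle.
-/

set_option autoImplicit false

namespace CfsgLib.OreSp

open LinearMap Submodule

universe v w

variable {F : Type v} [Field F]

/-- A Lagrangian frame in which the first diagonal block is `A`. -/
def Frame (X : Space.{v, w} F) (A : Matrix (Fin 2) (Fin 2) F) : Prop :=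
  ∃ (l m : Fin 2 → X.V) (C : Matrix (Fin 2) (Fin 2) F),
    (∀ i j, X.B (l i) (l j) = 0) ∧ (∀ i j, X.B (m i) (m j) = 0) ∧
    (∀ i j, X.B (l i) (m j) = if i = j then -1 else 0) ∧
    ∀ j, X.g (l j) = ∑ i, A i j • l i + ∑ i, C i j • m i

theorem frame_of_good {X : Space.{v, w} F} (hX : Module.finrank F X.V = 4) (h : Good X) :
    Frame X 1 := by
  obtain ⟨L, hiso, hd, hs, hg⟩ := h
  set d : Module.End F X.V := X.g.toLinearMap - LinearMap.id
  have hd' : ∀ x, d x = X.g x - x := fun _ => rfl
  have hsym : ∀ a ∈ L, ∀ b ∈ L, X.B (X.g a) b + X.B a (X.g b) = 0 := by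
    intro a ha b hb
    rw [X.adj, ← map_add, add_comm, ← X.s_apply]
    exact hiso a ha _ (hs b hb)
  have hI : ∀ a ∈ L.map d, ∀ b ∈ L.map d, X.B a b = 0 := by
    rintro _ ⟨a, ha, rfl⟩ _ ⟨b, hb, rfl⟩
    simp only [hd', map_sub, LinearMap.sub_apply, X.isom, hiso a ha b hb]
    have := hsym a ha b hb
    linear_combination (-1 : F) * this
  have hdisj : Disjoint L (L.map d) := Submodule.disjoint_def.mpr fun x hx hxd => by
    obtain ⟨a, ha, rfl⟩ := hxd
    rw [hd'] at hx ⊢
    rw [hg a ha hx, sub_self]
  obtain ⟨P, hPL, hdM⟩ := exists_complement X hiso hd (Module.finrank F L) (L.map d)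
    (Nat.le_add_left _ _) hI hdisj
  subst hPL
  let b := Module.finBasisOfFinrankEq F P.L (show Module.finrank F P.L = 2 by omega)
  let π := LinearEquiv.ofBijective P.pairing P.pairing_bijective
  let m : Fin 2 → P.M := fun j => π.symm (b.coord j)
  have hpair : ∀ (μ : P.M) (j : Fin 2), X.B (μ : X.V) (b j : X.V) = π μ (b j) := fun _ _ => rfl
  have hm : ∀ μ : P.M, μ = ∑ i, π μ (b i) • m i := fun μ => by
    apply π.injective
    refine b.ext fun j => ?_
    rw [map_sum, LinearMap.sum_apply]
    simp [m, Finsupp.single_apply]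
  refine ⟨fun i => b i, fun i => m i,
    fun i j => π ⟨d (b j), hdM ⟨_, (b j).2, rfl⟩⟩ (b i),
    fun i j => hiso _ (b i).2 _ (b j).2, fun i j => P.isoM _ (m i).2 _ (m j).2,
    fun i j => ?_, fun j => ?_⟩
  · rw [X.swap, hpair, LinearEquiv.apply_symm_apply]
    fin_cases i <;> fin_cases j <;> simp
  · have h1 := congrArg Subtype.val (hm ⟨d (b j), hdM ⟨_, (b j).2, rfl⟩⟩)
    simp only [Submodule.coe_sum, SetLike.val_smul] at h1
    rw [← h1, hd', Finset.sum_eq_single j (fun i _ hij => by simp [Matrix.one_apply, hij])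
      (fun hj => absurd (Finset.mem_univ j) hj)]
    simp

/-- A plane isometry other than `-1` is good. -/
theorem good_of_plane {K : Space.{v, w} F} (hK : Module.finrank F K.V = 2)
    (h : ¬ ∀ x, K.g x = -x) : Good K := by
  obtain ⟨l, hl0, hl⟩ : ∃ l : K.V, l ≠ 0 ∧
      ((∀ c : F, K.g l ≠ c • l) ∨ K.g l = l) := by
    by_contra hh
    push Not at hh
    apply h
    have key : ∀ x : K.V, x ≠ 0 → ∃ c : F, K.g x = c • x := fun x hx => (hh x hx).1
    obtain ⟨e, he⟩ := exists_plane_coords K hK
    set u := e.symm ![1, 0]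
    set u' := e.symm ![0, 1]
    have hu : u ≠ 0 := fun hz => by simpa [u] using congrArg (fun z => e z 0) hz
    have hu' : u' ≠ 0 := fun hz => by simpa [u'] using congrArg (fun z => e z 1) hz
    have hsum : u + u' ≠ 0 := fun hz => by simpa [u, u'] using congrArg (fun z => e z 0) hz
    obtain ⟨a, ha⟩ := key u hu
    obtain ⟨b, hb⟩ := key u' hu'
    obtain ⟨c, hc⟩ := key _ hsum
    rw [map_add, ha, hb] at hc
    have hac : a = c := by simpa [u, u'] using congrArg (fun z => e z 0) hc
    have hbc : b = c := by simpa [u, u'] using congrArg (fun z => e z 1) hc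
    have hab : a * b = 1 := by
      have h1 := K.isom u u'
      rw [ha, hb] at h1
      simp [he, u, u'] at h1
      linear_combination h1
    rw [hac] at ha
    rw [hbc] at hb
    rw [hac, hbc] at hab
    have hc1 : c ≠ 1 := fun hc1 => (hh u hu).2 (by rw [ha, hc1, one_smul])
    obtain rfl : c = -1 := (mul_self_eq_one_iff.mp hab).resolve_left hc1
    intro x
    have hx : x = e x 0 • u + e x 1 • u' := by
      apply e.injective
      funext i
      fin_cases i <;> simp [u, u']
    rw [hx, map_add, map_smul, map_smul, ha, hb, neg_one_smul, neg_one_smul]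
    module
  refine ⟨F ∙ l, ?_, ?_, ?_, ?_⟩
  · intro a ha b hb
    obtain ⟨s, rfl⟩ := Submodule.mem_span_singleton.mp ha
    obtain ⟨t, rfl⟩ := Submodule.mem_span_singleton.mp hb
    simp [K.alt]
  · rw [finrank_span_singleton hl0, hK]
  · intro a ha
    obtain ⟨t, rfl⟩ := Submodule.mem_span_singleton.mp ha
    rw [map_smul]
    refine Submodule.smul_mem _ t ?_
    -- the orthogonal of the line is the line
    have h1 : K.B (K.s l) l = 0 := by
      rw [K.s_apply, map_add, LinearMap.add_apply, K.adj' l l, K.swap l (K.g l)]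
      ring
    obtain ⟨e, he⟩ := exists_plane_coords K hK
    rw [he] at h1
    rw [Submodule.mem_span_singleton]
    have hne : e l ≠ 0 := by simpa using hl0
    rcases Classical.em (e l 0 = 0) with h0 | h0
    · have h10 : e l 1 ≠ 0 := fun h10 => hne (funext fun i => by fin_cases i <;> assumption)
      refine ⟨e (K.s l) 1 / e l 1, e.injective (funext fun i => ?_)⟩
      rw [h0, mul_zero, sub_zero] at h1
      fin_cases i
      · simp [h0, (mul_eq_zero.mp h1).resolve_right h10]
      · simp [h10]
    · refine ⟨e (K.s l) 0 / e l 0, e.injective (funext fun i => ?_)⟩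
      fin_cases i
      · simp [h0]
      · simp only [map_smul, Pi.smul_apply, smul_eq_mul, Fin.mk_one]
        field_simp
        linear_combination h1
  · intro a ha hga
    obtain ⟨t, rfl⟩ := Submodule.mem_span_singleton.mp ha
    rcases hl with hl | hl
    · rcases eq_or_ne t 0 with rfl | ht
      · simp
      · exfalso
        have hgm : K.g (t • l) ∈ F ∙ l := by simpa using Submodule.add_mem _ hga ha
        obtain ⟨c, hc⟩ := Submodule.mem_span_singleton.mp hgm
        refine hl (t⁻¹ * c) ?_
        rw [mul_smul, hc, map_smul, inv_smul_smul₀ ht]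
    · rw [map_smul, hl]

/-- The frame of the involution. -/
theorem frame_of_involution {X H P : Space.{v, w} F} (htwo : (2 : F) ≠ 0) (hi : Iso X (H.prod P))
    (hH : Module.finrank F H.V = 2) (hP : Module.finrank F P.V = 2) (hHg : ∀ x, H.g x = x)
    (hPg : ∀ x, P.g x = -x) : Frame X !![0, -1; 1, 0] := by
  obtain ⟨eH, hBH⟩ := exists_plane_coords H hH
  obtain ⟨eP, hBP⟩ := exists_plane_coords P hP
  obtain ⟨e, heB, heg⟩ := hi.symm
  let v : F → F → F → F → (H.prod P).V := fun a b c d => (eH.symm ![a, b], eP.symm ![c, d])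
  have hB : ∀ a b c d a' b' c' d', (H.prod P).B (v a b c d) (v a' b' c' d') =
      a * b' - b * a' + (c * d' - d * c') := by
    intro a b c d a' b' c' d'
    simp [Space.prod_B, v, hBH, hBP]
  have hg : ∀ a b c d, (H.prod P).g (v a b c d) = v a b (-c) (-d) := by
    intro a b c d
    rw [Space.prod_g]
    refine Prod.ext (hHg _) ?_
    show P.g (eP.symm ![c, d]) = eP.symm ![-c, -d]
    rw [hPg, ← map_neg]
    simp
  have hadd : ∀ a b c d a' b' c' d', v a b c d + v a' b' c' d' =
      v (a + a') (b + b') (c + c') (d + d') := by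
    intro a b c d a' b' c' d'
    simp [v, ← map_add]
  have hsmul : ∀ r a b c d, r • v a b c d = v (r * a) (r * b) (r * c) (r * d) := by
    intro r a b c d
    simp [v, ← map_smul]
  set h : F := (2 : F)⁻¹
  have hh : 2 * h = 1 := mul_inv_cancel₀ htwo
  refine ⟨![e (v 1 0 1 0), e (v 0 1 0 (-1))], ![e (v (-h) (-h) (-h) (-h)), e (v h (-h) (-h) h)],
    !![0, -2; 2, 0], ?_, ?_, ?_, ?_⟩
  · intro i j
    fin_cases i <;> fin_cases j <;> (dsimp; rw [heB, hB]; ring)
  · intro i j
    fin_cases i <;> fin_cases j <;> (dsimp; rw [heB, hB]; ring)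
  · intro i j
    fin_cases i <;> fin_cases j <;> (dsimp; rw [heB, hB]) <;>
      first
        | ring1
        | linear_combination (-1 : F) * hh
        | (simp; ring1)
        | (simp; linear_combination (-1 : F) * hh)
  · intro j
    fin_cases j <;>
      simp [Fin.sum_univ_two, ← heg, hg, ← map_smul, ← map_add, hadd, hsmul, hh, v]

/-- The three cases. -/
theorem frame_cases [Fintype F] (X : Space.{v, w} F) (hX : Module.finrank F X.V = 4) :
    Frame X 1 ∨ Frame X.neg 1 ∨ ((2 : F) ≠ 0 ∧ Frame X !![0, -1; 1, 0]) := by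
  obtain ⟨G, M, hi, ⟨hG, -⟩, -, hM'⟩ := exists_split_space X
  have hdim : Module.finrank F G.V + Module.finrank F M.V = 4 := by
    obtain ⟨e, -, -⟩ := id hi
    rw [← finrank_prod_space, ← e.finrank_eq, hX]
  rcases hM' with h0 | ⟨P, R, n, hiM, -, htwo, hPg, hPd, hn, hP1⟩
  · exact Or.inl (frame_of_good hX ((hG.prod (good_of_finrank_zero h0)).of_iso hi.symm))
  have hMd : Module.finrank F M.V = Module.finrank F P.V + Module.finrank F R.V := by
    obtain ⟨e, -, -⟩ := id hiM
    rw [e.finrank_eq, finrank_prod_space]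
  obtain ⟨d, hd⟩ := hn
  obtain rfl : n = 1 := by omega
  have hi' : Iso X ((G.prod R).prod P) :=
    (hi.trans ((Iso.refl G).prod (hiM.trans (iso_prod_comm P R)))).trans (iso_prod_assoc G R P).symm
  have hH : Module.finrank F (G.prod R).V = 2 := by rw [finrank_prod_space]; omega
  by_cases hH1 : ∀ x, (G.prod R).g x = x
  · exact Or.inr (Or.inr ⟨htwo, frame_of_involution htwo hi' hH hPd hH1 (hP1 rfl)⟩)
  · refine Or.inr (Or.inl (frame_of_good hX ?_))
    have hK : Good (G.prod R).neg := good_of_plane hH fun hc => hH1 fun x =>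
      neg_inj.mp ((Space.neg_g_apply _ x).symm.trans (hc x))
    exact (hK.prod hPg).of_iso ((iso_neg_prod _ P).trans (iso_neg hi').symm)

end CfsgLib.OreSp
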