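import Cfsg.Agent.OreSp.Trick
import Mathlib.LinearAlgebra.Dual.Lemmas
import Mathlib.Tactic.LinearCombination
import Mathlib.Tactic.Module

/-!
# Commutators from invariant Lagrangians
-/

set_option autoImplicit false

namespace CfsgLib.OreSp

open LinearMap Submodule Polynomial

universe v w

variable {F : Type v} [Field F]

/-- A witness of size `m` for the sign `c`. -/
def Witness (c : F) (m : ℕ) : Prop :=
  ∃ Y Yi C Ci : Matrix (Fin m) (Fin m) F, ∃ p q : F[X], IsCoprime p q ∧ Y * Yi = 1 ∧ C * Ci = 1 ∧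
    c • (Y * C) = C * Y ∧ aeval Y p = 0 ∧ aeval Yi q = 0

variable (X : Space.{v, w} F)

theorem finrank_perp_add (W : Submodule F X.V) :
    Module.finrank F (perp X W) + Module.finrank F W = Module.finrank F X.V := by
  let φ : X.V →ₗ[F] Module.Dual F X.V := X.B
  have hφ : Function.Injective φ := (injective_iff_map_eq_zero φ).mpr fun x hx =>
    X.nd x fun y => LinearMap.congr_fun hx y
  let ψ : X.V →ₗ[F] Module.Dual F W := (X.B.compl₁₂ W.subtype LinearMap.id).flip
  have hψ : Function.Surjective ψ := by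
    intro f
    obtain ⟨f', hf'⟩ := LinearMap.exists_extend f
    obtain ⟨x, hx⟩ := (LinearMap.injective_iff_surjective_of_finrank_eq_finrank
      (Subspace.dual_finrank_eq (K := F) (V := X.V)).symm).mp hφ (-f')
    refine ⟨x, LinearMap.ext fun a => ?_⟩
    show X.B (a : X.V) x = f a
    rw [X.swap, show X.B x (a : X.V) = -f' (a : X.V) from LinearMap.congr_fun hx _, neg_neg,
      ← hf']
    rfl
  have hker : LinearMap.ker ψ = perp X W := by
    ext x
    exact ⟨fun h w hw => LinearMap.congr_fun h ⟨w, hw⟩, fun h => LinearMap.ext fun a => h a a.2⟩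
  have h := ψ.finrank_range_add_finrank_ker
  rw [LinearMap.range_eq_top.mpr hψ, finrank_top, Subspace.dual_finrank_eq, hker] at h
  omega

/-- An isotropic subspace away from a Lagrangian lies in a complementary Lagrangian. -/
theorem exists_complement {L : Submodule F X.V} (hL : ∀ a ∈ L, ∀ b ∈ L, X.B a b = 0)
    (hd : Module.finrank F X.V = 2 * Module.finrank F L) :
    ∀ (k : ℕ) (I : Submodule F X.V), Module.finrank F L ≤ Module.finrank F I + k →
      (∀ a ∈ I, ∀ b ∈ I, X.B a b = 0) → Disjoint L I →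
      ∃ P : Pair X, P.L = L ∧ I ≤ P.M := by
  intro k
  induction k with
  | zero =>
    intro I hk hI hdisj
    refine ⟨⟨L, I, hL, hI, hdisj, codisjoint_iff.mpr (Submodule.eq_top_of_finrank_eq ?_)⟩, rfl, le_rfl⟩
    have h1 := Submodule.finrank_sup_add_finrank_inf_eq L I
    rw [hdisj.eq_bot, finrank_bot, add_zero] at h1
    have := Submodule.finrank_le (L ⊔ I)
    omega
  | succ k ih =>
    intro I hk hI hdisj
    by_cases hle : Module.finrank F L ≤ Module.finrank F I + k
    · exact ih I hle hI hdisj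
    have hIperp : I ≤ perp X I := fun x hx w hw => hI w hw x hx
    -- a new vector
    obtain ⟨x, hx, hxn⟩ : ∃ x ∈ perp X I, x ∉ L ⊔ I := by
      by_contra hc
      push Not at hc
      have hle' : perp X I ≤ (perp X I ⊓ L) ⊔ I := by
        intro x hx
        obtain ⟨a, ha, b, hb, rfl⟩ := Submodule.mem_sup.mp (hc x hx)
        refine Submodule.add_mem_sup ⟨?_, ha⟩ hb
        simpa using (perp X I).sub_mem hx (hIperp hb)
      have hperp : (perp X I ⊓ L) ≤ perp X (L ⊔ I) := fun x hx w hw => by
        obtain ⟨a, ha, b, hb, rfl⟩ := Submodule.mem_sup.mp hw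
        rw [map_add, LinearMap.add_apply, hL a ha x hx.2, hx.1 b hb, add_zero]
      have h1 := finrank_perp_add X I
      have h2 := finrank_perp_add X (L ⊔ I)
      have h3 := Submodule.finrank_mono hle'
      have h4 := Submodule.finrank_add_le_finrank_add_finrank (perp X I ⊓ L) I
      have h5 := Submodule.finrank_mono hperp
      have h6 := Submodule.finrank_sup_add_finrank_inf_eq L I
      rw [hdisj.eq_bot, finrank_bot, add_zero] at h6
      omega
    have hx0 : x ∉ I := fun h => hxn (Submodule.mem_sup_right h)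
    have h1' : Module.finrank F L ≤ Module.finrank F ↥(I ⊔ F ∙ x) + k := by
      have : I < I ⊔ F ∙ x := lt_of_le_of_ne le_sup_left fun e => hx0 (by
        rw [e]; exact Submodule.mem_sup_right (Submodule.mem_span_singleton_self x))
      have := Submodule.finrank_lt_finrank_of_lt this
      omega
    have h2' : ∀ a ∈ I ⊔ F ∙ x, ∀ b ∈ I ⊔ F ∙ x, X.B a b = 0 := by
      intro a ha b hb
      obtain ⟨a₁, ha₁, a₂, ha₂, rfl⟩ := Submodule.mem_sup.mp ha
      obtain ⟨b₁, hb₁, b₂, hb₂, rfl⟩ := Submodule.mem_sup.mp hb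
      obtain ⟨s, rfl⟩ := Submodule.mem_span_singleton.mp ha₂
      obtain ⟨t, rfl⟩ := Submodule.mem_span_singleton.mp hb₂
      simp [hI a₁ ha₁ b₁ hb₁, hx a₁ ha₁, X.swap b₁ x, hx b₁ hb₁, X.alt]
    have h3' : Disjoint L (I ⊔ F ∙ x) := by
      refine Submodule.disjoint_def.mpr fun a haL ha => ?_
      obtain ⟨a₁, ha₁, a₂, ha₂, rfl⟩ := Submodule.mem_sup.mp ha
      obtain ⟨s, rfl⟩ := Submodule.mem_span_singleton.mp ha₂
      rcases eq_or_ne s 0 with rfl | hs
      · rw [zero_smul, add_zero] at haL ⊢
        exact Submodule.disjoint_def.mp hdisj _ haL ha₁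
      · exfalso
        apply hxn
        have h1 : s • x ∈ L ⊔ I := by
          have : s • x = (a₁ + s • x) - a₁ := by abel
          rw [this]
          exact (L ⊔ I).sub_mem (Submodule.mem_sup_left haL) (Submodule.mem_sup_right ha₁)
        simpa [inv_smul_smul₀ hs] using (L ⊔ I).smul_mem s⁻¹ h1
    obtain ⟨P, hP, hPI⟩ := ih (I ⊔ F ∙ x) h1' h2' h3'
    exact ⟨P, hP, le_sup_left.trans hPI⟩

/-- The commutator from an invariant Lagrangian and a witness. -/
theorem comm_of_lagrangian (c : F) (hc : c * c = 1) (L : Submodule F X.V)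
    (hiso : ∀ a ∈ L, ∀ b ∈ L, X.B a b = 0) (hd : Module.finrank F X.V = 2 * Module.finrank F L)
    (hs : ∀ l ∈ L, X.s l ∈ L) (hg : ∀ l ∈ L, X.g l - c • l ∈ L → X.g l = c • l)
    (hw : Witness c (Module.finrank F L)) : Comm X := by
  set d : Module.End F X.V := X.g.toLinearMap - c • LinearMap.id with hddef
  have hd' : ∀ x, d x = X.g x - c • x := fun _ => rfl
  -- the image of `L` under `g - c`
  have hsym : ∀ a ∈ L, ∀ b ∈ L, X.B (X.g a) b + X.B a (X.g b) = 0 := by
    intro a ha b hb
    rw [X.adj, ← map_add, add_comm, ← X.s_apply]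
    exact hiso a ha _ (hs b hb)
  have hI : ∀ a ∈ L.map d, ∀ b ∈ L.map d, X.B a b = 0 := by
    rintro _ ⟨a, ha, rfl⟩ _ ⟨b, hb, rfl⟩
    simp only [hd', map_sub, map_smul, LinearMap.sub_apply, LinearMap.smul_apply, X.isom,
      hiso a ha b hb, smul_eq_mul]
    have := hsym a ha b hb
    linear_combination (-c) * this
  have hdisj : Disjoint L (L.map d) := Submodule.disjoint_def.mpr fun x hx hxd => by
    obtain ⟨a, ha, rfl⟩ := hxd
    rw [hd'] at hx ⊢
    rw [hg a ha hx, sub_self]
  obtain ⟨P, hPL, hdM⟩ := exists_complement X hiso hd (Module.finrank F L) (L.map d)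
    (Nat.le_add_left _ _) hI hdisj
  subst hPL
  -- the lower factor
  set pr : Module.End F X.V := P.L.subtype ∘ₗ (P.L.projectionOnto P.M P.compl)
  have hprL : ∀ l ∈ P.L, pr l = l := fun l hl => by
    show ((P.L.projectionOnto P.M P.compl l : P.L) : X.V) = l
    rw [Submodule.projectionOnto_apply_left P.compl ⟨l, hl⟩]
  have hprM : ∀ μ ∈ P.M, pr μ = 0 := fun μ hμ => by
    show ((P.L.projectionOnto P.M P.compl μ : P.L) : X.V) = 0
    rw [Submodule.projectionOnto_apply_right P.compl ⟨μ, hμ⟩, ZeroMemClass.coe_zero]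
  set E : Module.End F X.V := c • (d ∘ₗ pr)
  have hEM : ∀ x, E x ∈ P.M := fun x =>
    P.M.smul_mem c (hdM ⟨pr x, (P.L.projectionOnto P.M P.compl x).2, rfl⟩)
  have hE0 : ∀ μ ∈ P.M, E μ = 0 := fun μ hμ => by
    show c • d (pr μ) = 0
    rw [hprM μ hμ, map_zero, smul_zero]
  have hEL : ∀ l ∈ P.L, E l = c • (X.g l - c • l) := fun l hl => by
    show c • d (pr l) = _
    rw [hprL l hl, hd']
  let Low : X.V ≃ₗ[F] X.V := LinearEquiv.ofLinear (LinearMap.id + E) (LinearMap.id - E)
    (by ext x
        simp only [LinearMap.comp_apply, LinearMap.add_apply, LinearMap.id_apply, LinearMap.sub_apply,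
          map_sub, hE0 _ (hEM x)]
        abel)
    (by ext x
        simp only [LinearMap.comp_apply, LinearMap.add_apply, LinearMap.id_apply, LinearMap.sub_apply,
          map_add, hE0 _ (hEM x)]
        abel)
  have hLow : ∀ x, Low x = x + E x := fun _ => rfl
  have hLowI : IsIsom X Low := fun u v => by
    obtain ⟨a, ha, b, hb, rfl⟩ := P.decomp u
    obtain ⟨a', ha', b', hb', rfl⟩ := P.decomp v
    simp only [hLow, map_add, hE0 b hb, hE0 b' hb', LinearMap.add_apply, add_zero,
      P.isoM _ (hEM a) _ (hEM a'), P.isoM _ (hEM a) b' hb', P.isoM b hb _ (hEM a')]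
    have h1 : X.B (E a) a' + X.B a (E a') = 0 := by
      rw [hEL a ha, hEL a' ha']
      simp only [map_smul, LinearMap.smul_apply, map_sub, LinearMap.sub_apply, hiso a ha a' ha',
        smul_eq_mul]
      have := hsym a ha a' ha'
      linear_combination c * this
    linear_combination h1
  have hLowg : ∀ l ∈ P.L, Low (c • l) = X.g l := fun l hl => by
    rw [hLow, map_smul, hEL l hl, smul_smul, hc, one_smul, add_sub_cancel]
  -- the upper factor
  have hcne : c ≠ 0 := fun e => by rw [e, mul_zero] at hc; exact zero_ne_one hc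
  let U : X.V ≃ₗ[F] X.V := (X.g.trans Low.symm).trans (LinearEquiv.smulOfUnit (Units.mk0 c hcne))
  have hU : ∀ x, U x = c • Low.symm (X.g x) := fun _ => rfl
  have hUI : IsIsom X U := fun u v => by
    rw [hU, hU, map_smul, map_smul, LinearMap.smul_apply, smul_smul, hc, one_smul,
      (IsIsom.symm X hLowI) _ _, X.isom]
  have hUL : ∀ l ∈ P.L, U l = l := fun l hl => by
    rw [hU, ← hLowg l hl, LinearEquiv.symm_apply_apply, smul_smul, hc, one_smul]
  have hgU : ∀ x, X.g x = c • Low (U x) := fun x => by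
    rw [hU, map_smul, LinearEquiv.apply_symm_apply, smul_smul, hc, one_smul]
  have hUsub : ∀ x, U x - x ∈ P.L := fun x => by
    obtain ⟨a, ha, b, hb, e⟩ := P.decomp (U x - x)
    rw [e]
    suffices b = 0 by rw [this, add_zero]; exact ha
    refine P.eq_zero_of_perp hb fun l hl => ?_
    have h1 : X.B (U x - x) l = 0 := by
      rw [map_sub, LinearMap.sub_apply]
      conv_lhs => arg 1; arg 2; rw [← hUL l hl]
      rw [hUI, sub_self]
    rw [e, map_add, LinearMap.add_apply, hiso a ha l hl, zero_add] at h1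
    exact h1
  -- operators of the witness
  obtain ⟨Y, Yi, C, Ci, p, q, hpq, hY, hC, hYC, hp, hq⟩ := hw
  let bL := Module.finBasis F P.L
  let A := (LinearMap.toMatrixAlgEquiv bL).symm
  have hinv : ∀ {M N : Matrix (Fin (Module.finrank F P.L)) (Fin (Module.finrank F P.L)) F}, M * N = 1 →
      A M * A N = 1 ∧ A N * A M = 1 := fun {M N} h =>
    ⟨by rw [← map_mul, h, map_one], by rw [← map_mul, mul_eq_one_comm.mp h, map_one]⟩
  let T : P.L ≃ₗ[F] P.L := LinearEquiv.ofLinear (A Y) (A Yi) (hinv hY).1 (hinv hY).2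
  let S : P.L ≃ₗ[F] P.L := LinearEquiv.ofLinear (A C) (A Ci) (hinv hC).1 (hinv hC).2
  obtain ⟨D, hDI, hDL', hDM⟩ := P.exists_ext T
  obtain ⟨K, hKI, hKL', hKM⟩ := P.exists_ext S
  have hDL : ∀ l ∈ P.L, D l ∈ P.L := fun l hl => by
    rw [show D l = T ⟨l, hl⟩ from hDL' ⟨l, hl⟩]; exact (T _).2
  have hKL : ∀ l ∈ P.L, K l ∈ P.L := fun l hl => by
    rw [show K l = S ⟨l, hl⟩ from hKL' ⟨l, hl⟩]; exact (S _).2
  have hDsymL' : ∀ l : P.L, D.symm l = (T.symm l : X.V) := fun l => by
    apply D.injective
    rw [LinearEquiv.apply_symm_apply, hDL', LinearEquiv.apply_symm_apply]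
  -- polynomial values on `L`
  have hres : ∀ (Z : X.V ≃ₗ[F] X.V) (W : Module.End F P.L), (∀ l : P.L, Z l = (W l : X.V)) →
      ∀ (r : F[X]) (l : P.L), aeval Z.toLinearMap r (l : X.V) = (aeval W r l : X.V) := by
    intro Z W hZW r
    induction r using Polynomial.induction_on' with
    | add r r' h h' => intro l; simp only [map_add, LinearMap.add_apply, h, h', Submodule.coe_add]
    | monomial k a =>
      intro l
      simp only [aeval_monomial, ← Algebra.smul_def, LinearMap.smul_apply, SetLike.val_smul]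
      congr 1
      induction k with
      | zero => rfl
      | succ k ih =>
        rw [pow_succ', pow_succ', Module.End.mul_apply, Module.End.mul_apply, ih]
        exact hZW _
  have hTp : aeval (A Y) p = 0 := by exact (Polynomial.aeval_algHom_apply A.toAlgHom Y p).trans (by rw [hp, map_zero])
  have hTq : aeval (A Yi) q = 0 := by exact (Polynomial.aeval_algHom_apply A.toAlgHom Yi q).trans (by rw [hq, map_zero])
  obtain ⟨a₀, b₀, hab⟩ := hpq
  have hTqinj : ∀ l : P.L, aeval (A Y) q l = 0 → l = 0 := fun l hl => by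
    have h := LinearMap.congr_fun (congrArg (aeval (A Y)) hab) l
    rw [map_add, map_mul, map_mul, map_one, hTp, mul_zero, zero_add, Module.End.mul_apply, hl,
      map_zero, Module.End.one_apply] at h
    exact h.symm
  have hTpinj : ∀ l : P.L, aeval (A Yi) p l = 0 → l = 0 := fun l hl => by
    have h := LinearMap.congr_fun (congrArg (aeval (A Yi)) hab) l
    rw [map_add, map_mul, map_mul, map_one, hTq, mul_zero, add_zero, Module.End.mul_apply, hl,
      map_zero, Module.End.one_apply] at h
    exact h.symm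
  have hDLsymm : ∀ l ∈ P.L, D.symm l ∈ P.L := fun l hl => by
    rw [show D.symm l = T.symm ⟨l, hl⟩ from hDsymL' ⟨l, hl⟩]; exact (T.symm _).2
  have hMsymm : ∀ (Z : X.V ≃ₗ[F] X.V), (∀ x ∈ P.M, Z x ∈ P.M) → ∀ x ∈ P.M, Z.symm x ∈ P.M := by
    intro Z hZ x hx
    let T : P.M →ₗ[F] P.M := Z.toLinearMap.restrict hZ
    have hT : Function.Injective T := fun a b h => Subtype.ext (Z.injective (congrArg Subtype.val h))
    obtain ⟨b, hb⟩ := LinearMap.injective_iff_surjective.mp hT ⟨x, hx⟩
    rw [← show Z b = x from congrArg Subtype.val hb, LinearEquiv.symm_apply_apply]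
    exact b.2
  -- `Y`
  let Yv : X.V ≃ₗ[F] X.V := D.trans U.symm
  have hYI : IsIsom X Yv := hDI.trans X (IsIsom.symm X hUI)
  have hUsymL : ∀ l ∈ P.L, U.symm l = l := fun l hl => by
    apply U.injective
    rw [LinearEquiv.apply_symm_apply, hUL l hl]
  obtain ⟨Q, hQI, hQ⟩ := P.exists_split (Z := Yv) (D := D) hYI hDM hDL
    (fun l hl => hUsymL _ (hDL l hl))
    (fun x => by
      show U.symm (D x) - D x ∈ P.L
      have h := P.L.neg_mem (hUsub (U.symm (D x)))
      rwa [LinearEquiv.apply_symm_apply, neg_sub] at h)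
    q
    (fun μ hμ => P.eq_zero_of_perp (poly_mem X (T := D.toLinearMap) hDM q hμ) fun l hl => by
      rw [poly_adj X hDI, hres D.symm (A Yi) hDsymL' q ⟨l, hl⟩, hTq, LinearMap.zero_apply,
        ZeroMemClass.coe_zero, map_zero])
    (fun l hl h0 => by
      rw [hres D (A Y) hDL' q ⟨l, hl⟩, ZeroMemClass.coe_eq_zero] at h0
      exact congrArg Subtype.val (hTqinj _ h0))
    (fun μ hμ h0 => P.eq_zero_of_perp hμ fun l hl => by
      -- `l` is a value of `q` on `L`
      have hsurj := LinearMap.injective_iff_surjective.mp ((injective_iff_map_eq_zero _).mpr hTqinj)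
      obtain ⟨a, ha⟩ := hsurj ⟨l, hl⟩
      have h := poly_adj X (IsIsom.symm X hDI) q μ (a : X.V)
      rw [h0, map_zero, LinearMap.zero_apply, LinearEquiv.symm_symm, hres D (A Y) hDL' q a, ha] at h
      exact h.symm)
  -- `g Y`
  let D' : X.V ≃ₗ[F] X.V := (K.symm.trans D).trans K
  have hD'I : IsIsom X D' := ((IsIsom.symm X hKI).trans X hDI).trans X hKI
  let cD : X.V ≃ₗ[F] X.V := D.trans (LinearEquiv.smulOfUnit (Units.mk0 c hcne))
  have hcD : ∀ x, cD x = c • D x := fun _ => rfl
  have hcDI : IsIsom X cD := fun u v => by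
    rw [hcD, hcD, map_smul, map_smul, LinearMap.smul_apply, smul_smul, hc, one_smul, hDI]
  have hKC : ∀ v, cD (K v) = K (D v) := by
    refine P.ext (x := K.trans cD) (y := D.trans K) (hKI.trans X hcDI) (hDI.trans X hKI)
      (fun μ hμ => P.M.smul_mem c (hDM _ (hKM μ hμ))) (fun μ hμ => hKM _ (hDM μ hμ))
      (fun l hl => P.L.smul_mem c (hDL _ (hKL l hl))) fun l hl => ?_
    show c • D (K l) = K (D l)
    rw [show K l = S ⟨l, hl⟩ from hKL' ⟨l, hl⟩, hDL', show D l = T ⟨l, hl⟩ from hDL' ⟨l, hl⟩, hKL',
      ← SetLike.val_smul]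
    congr 1
    have h := LinearMap.congr_fun (congrArg A hYC) ⟨l, hl⟩
    rw [map_smul, map_mul, map_mul] at h
    exact h
  let Zv : X.V ≃ₗ[F] X.V := Yv.trans X.g
  have hZ : ∀ x, Zv x = Low (cD x) := fun x => by
    show X.g (U.symm (D x)) = _
    rw [hgU, LinearEquiv.apply_symm_apply, hcD, map_smul]
  have hcDp : ∀ l : P.L, aeval cD.toLinearMap p (l : X.V) = 0 := fun l => by
    have hcd' : ∀ r : F[X], ∀ v, aeval cD.toLinearMap r (K v) = K (aeval D.toLinearMap r v) := by
      intro r
      induction r using Polynomial.induction_on' with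
      | add r r' h h' => intro v; simp only [map_add, LinearMap.add_apply, h, h']
      | monomial k a =>
        intro v
        simp only [aeval_monomial, ← Algebra.smul_def, LinearMap.smul_apply, map_smul]
        congr 1
        induction k generalizing v with
        | zero => rfl
        | succ k ih =>
          rw [pow_succ, pow_succ, Module.End.mul_apply, Module.End.mul_apply]
          show (cD.toLinearMap ^ k) (cD (K v)) = K ((D.toLinearMap ^ k) (D v))
          rw [hKC, ih]
    obtain ⟨a, ha⟩ : ∃ a : P.L, K a = (l : X.V) := ⟨S.symm l, by rw [hKL', LinearEquiv.apply_symm_apply]⟩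
    rw [← ha, hcd', hres D (A Y) hDL' p a, hTp, LinearMap.zero_apply, ZeroMemClass.coe_zero, map_zero]
  obtain ⟨R, hRI, hR⟩ := P.swap.exists_split (Z := Zv) (D := cD) (hYI.trans X X.isom)
    (fun l hl => P.L.smul_mem c (hDL l hl)) (fun μ hμ => P.M.smul_mem c (hDM μ hμ))
    (fun μ hμ => by rw [hZ, hLow, hE0 (cD μ) (P.M.smul_mem c (hDM μ hμ)), add_zero])
    (fun x => by rw [hZ, hLow, add_sub_cancel_left]; exact hEM _)
    p
    (fun l hl => hcDp ⟨l, hl⟩)
    (fun μ hμ h0 => P.eq_zero_of_perp hμ fun l hl => by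
      -- `p (cD)⁻¹` is injective on `L`, hence surjective
      have hcd' : ∀ r : F[X], ∀ v, aeval cD.symm.toLinearMap r (K v) =
          K (aeval D.symm.toLinearMap r v) := by
        have hstep : ∀ v, cD.symm (K v) = K (D.symm v) := fun v => by
          apply cD.injective
          rw [LinearEquiv.apply_symm_apply, hKC, LinearEquiv.apply_symm_apply]
        intro r
        induction r using Polynomial.induction_on' with
        | add r r' h h' => intro v; simp only [map_add, LinearMap.add_apply, h, h']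
        | monomial k a =>
          intro v
          simp only [aeval_monomial, ← Algebra.smul_def, LinearMap.smul_apply, map_smul]
          congr 1
          induction k generalizing v with
          | zero => rfl
          | succ k ih =>
            rw [pow_succ, pow_succ, Module.End.mul_apply, Module.End.mul_apply]
            show (cD.symm.toLinearMap ^ k) (cD.symm (K v)) = K ((D.symm.toLinearMap ^ k) (D.symm v))
            rw [hstep, ih]
      have hsurj := LinearMap.injective_iff_surjective.mp ((injective_iff_map_eq_zero _).mpr hTpinj)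
      obtain ⟨a, ha⟩ := hsurj (S.symm ⟨l, hl⟩)
      have h := poly_adj X hcDI p μ (K (a : X.V))
      rw [h0, map_zero, LinearMap.zero_apply, hcd', hres D.symm (A Yi) hDsymL' p a, ha, hKL',
        LinearEquiv.apply_symm_apply] at h
      exact h.symm)
    (fun l hl h0 => by
      obtain ⟨a, ha⟩ : ∃ a : P.L, K a = l := ⟨S.symm ⟨l, hl⟩, by rw [hKL', LinearEquiv.apply_symm_apply]⟩
      have hcd' : ∀ r : F[X], ∀ v, aeval cD.symm.toLinearMap r (K v) =
          K (aeval D.symm.toLinearMap r v) := by
        have hstep : ∀ v, cD.symm (K v) = K (D.symm v) := fun v => by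
          apply cD.injective
          rw [LinearEquiv.apply_symm_apply, hKC, LinearEquiv.apply_symm_apply]
        intro r
        induction r using Polynomial.induction_on' with
        | add r r' h h' => intro v; simp only [map_add, LinearMap.add_apply, h, h']
        | monomial k a =>
          intro v
          simp only [aeval_monomial, ← Algebra.smul_def, LinearMap.smul_apply, map_smul]
          congr 1
          induction k generalizing v with
          | zero => rfl
          | succ k ih =>
            rw [pow_succ, pow_succ, Module.End.mul_apply, Module.End.mul_apply]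
            show (cD.symm.toLinearMap ^ k) (cD.symm (K v)) = K ((D.symm.toLinearMap ^ k) (D.symm v))
            rw [hstep, ih]
      rw [← ha, hcd', LinearEquiv.map_eq_zero_iff, hres D.symm (A Yi) hDsymL' p a,
        ZeroMemClass.coe_eq_zero] at h0
      rw [← ha, hTpinj a h0, ZeroMemClass.coe_zero, map_zero])
  -- conclusion
  refine ⟨(Q.symm.trans K).trans R, Yv, ((IsIsom.symm X hQI).trans X hKI).trans X hRI, hYI, fun v => ?_⟩
  show Zv (R (K (Q.symm v))) = R (K (Q.symm (Yv v)))
  rw [← hR, hKC]
  congr 2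
  apply Q.injective
  rw [LinearEquiv.apply_symm_apply, hQ, LinearEquiv.apply_symm_apply]

theorem comm_of_good {X : Space.{v, w} F} (h : Good X)
    (hw : ∀ m, 2 * m = Module.finrank F X.V → Witness (1 : F) m) : Comm X := by
  obtain ⟨L, hi, hd, hs, hg⟩ := h
  refine comm_of_lagrangian X 1 (one_mul 1) L hi hd hs (fun l hl h => ?_) (hw _ hd.symm)
  rw [one_smul] at h ⊢
  exact hg l hl h

theorem comm_of_good_neg {X : Space.{v, w} F} (h : Good X.neg)
    (hw : ∀ m, 2 * m = Module.finrank F X.V → Witness (-1 : F) m) : Comm X := by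
  obtain ⟨L, hi, hd, hs, hg⟩ := h
  refine comm_of_lagrangian X (-1) (by ring) L hi hd (fun l hl => ?_) (fun l hl h => ?_) (hw _ hd.symm)
  · have h := hs l hl
    rw [Space.neg_s_apply] at h
    simpa using L.neg_mem h
  · rw [neg_smul, one_smul] at h ⊢
    have h2 := hg l hl (by
      show -X.g l - l ∈ L
      have := L.neg_mem h
      rwa [sub_neg_eq_add, neg_add, ← sub_eq_add_neg] at this)
    exact neg_eq_iff_eq_neg.mp h2

end CfsgLib.OreSp
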