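import Cfsg.Agent.OreSp.FromLagrangian
import Mathlib.FieldTheory.Finite.Extension
import Mathlib.FieldTheory.Normal.Basic
import Mathlib.RingTheory.LittleWedderburn
import Mathlib.LinearAlgebra.Matrix.Basis

/-!
# Witnesses from finite fields
-/

set_option autoImplicit false

namespace CfsgLib.OreSp

open Polynomial

universe v

variable {F : Type v} [Field F] [Fintype F]

theorem witness_zero (c : F) : Witness c 0 :=
  ⟨1, 1, 1, 1, 1, 1, isCoprime_one_left, Subsingleton.elim _ _, Subsingleton.elim _ _,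
    Subsingleton.elim _ _, Subsingleton.elim _ _, Subsingleton.elim _ _⟩

/-- An element of an extension field whose inverse is no conjugate gives a witness. -/
theorem witness_of_field {K : Type*} [Field K] [Finite K] [Algebra F K] {m : ℕ}
    (hfin : Module.finrank F K = m) (η : Kˣ) (c : F) (ψ : K ≃ₐ[F] K)
    (hψ : ψ (η : K) = c • (η : K))
    (h : ∀ i < m, η ^ (Fintype.card F ^ i + 1) ≠ 1) : Witness c m := by
  classical
  haveI : FiniteDimensional F K := Module.Finite.of_finite
  let b : Module.Basis (Fin m) F K := Module.finBasisOfFinrankEq F K hfin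
  let M := Algebra.leftMulMatrix b
  have hint : ∀ x : K, IsIntegral F x := fun x => IsIntegral.of_finite F x
  refine ⟨M η, M (η⁻¹ : Kˣ), LinearMap.toMatrix b b ψ.toLinearMap,
    LinearMap.toMatrix b b ψ.symm.toLinearMap, minpoly F (η : K), minpoly F ((η⁻¹ : Kˣ) : K),
    ?_, ?_, ?_, ?_, ?_, ?_⟩
  · rw [(minpoly.irreducible (hint _)).coprime_iff_not_dvd]
    intro hdvd
    have hev : aeval (η : K) (minpoly F ((η⁻¹ : Kˣ) : K)) = 0 :=
      aeval_eq_zero_of_dvd_aeval_eq_zero hdvd (minpoly.aeval F _)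
    obtain ⟨σ, hσ⟩ := minpoly.exists_algEquiv_of_root' (hint _).isAlgebraic hev
    obtain ⟨i, hi⟩ := (FiniteField.bijective_frobeniusAlgEquivOfAlgebraic_pow F K).2 σ
    refine h i (hfin ▸ i.2) ?_
    have hσ' : ((η⁻¹ : Kˣ) : K) ^ Fintype.card F ^ (i : ℕ) = (η : K) := by
      rw [← hσ, ← hi]
      simp [AlgEquiv.coe_pow, FiniteField.coe_frobeniusAlgEquivOfAlgebraic, pow_iterate]
    have h1 : η⁻¹ ^ Fintype.card F ^ (i : ℕ) = η := Units.ext (by simpa using hσ')
    calc η ^ (Fintype.card F ^ (i : ℕ) + 1)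
        = η ^ Fintype.card F ^ (i : ℕ) * η := pow_succ _ _
      _ = η ^ Fintype.card F ^ (i : ℕ) * η⁻¹ ^ Fintype.card F ^ (i : ℕ) := by rw [h1]
      _ = 1 := by rw [← mul_pow, mul_inv_cancel, one_pow]
  · rw [← map_mul, Units.mul_inv, map_one]
  · rw [← LinearMap.toMatrix_mul, show ψ.toLinearMap * ψ.symm.toLinearMap = 1 from
      LinearMap.ext fun x => ψ.apply_symm_apply x, LinearMap.toMatrix_one]
  · simp only [M, Algebra.leftMulMatrix_apply, ← LinearMap.toMatrix_mul]
    rw [← map_smul]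
    congr 1
    ext x
    show c • ((η : K) * ψ x) = ψ ((η : K) * x)
    rw [map_mul, hψ, smul_mul_assoc]
  · rw [Polynomial.aeval_algHom_apply, minpoly.aeval, map_zero]
  · rw [Polynomial.aeval_algHom_apply, minpoly.aeval, map_zero]

/-- Witnesses for the sign `1`. -/
theorem witness_one (m : ℕ) (h1 : m = 1 → 4 ≤ Fintype.card F) (h2 : m = 2 → 3 ≤ Fintype.card F) :
    Witness (1 : F) m := by
  rcases Nat.eq_zero_or_pos m with rfl | hm
  · exact witness_zero 1
  haveI : NeZero m := ⟨hm.ne'⟩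
  obtain ⟨p, _⟩ := CharP.exists F
  haveI : Fact p.Prime := ⟨CharP.char_is_prime F p⟩
  set K := FiniteField.Extension F p m
  letI : Fintype K := Fintype.ofFinite K
  have hfin : Module.finrank F K = m := FiniteField.finrank_extension F p m
  classical
  obtain ⟨η, hη⟩ := IsCyclic.exists_generator (α := Kˣ)
  have hord : orderOf η = Fintype.card F ^ m - 1 := by
    rw [orderOf_eq_card_of_forall_mem_zpowers hη, Nat.card_eq_fintype_card, Fintype.card_units,
      Module.card_eq_pow_finrank (K := F) (V := K), hfin]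
  refine witness_of_field hfin η 1 AlgEquiv.refl (one_smul F _).symm fun i hi he => ?_
  have hle := Nat.le_of_dvd (Nat.succ_pos _) (orderOf_dvd_of_pow_eq_one he)
  rw [hord] at hle
  have hq : 2 ≤ Fintype.card F := Fintype.one_lt_card
  have hpow : Fintype.card F ^ i ≤ Fintype.card F ^ (m - 1) :=
    Nat.pow_le_pow_right (by omega) (by omega)
  obtain ⟨n, rfl⟩ : ∃ n, m = n + 1 := ⟨m - 1, by omega⟩
  rw [pow_succ] at hle
  rw [Nat.add_sub_cancel] at hpow
  rcases n with _ | _ | n
  · have h4 := h1 rfl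
    simp at hle hpow
    omega
  · have h3 := h2 rfl
    rw [zero_add, pow_one] at hle hpow
    have := Nat.mul_le_mul_left (Fintype.card F) h3
    omega
  · have h4 : 2 ^ 2 ≤ Fintype.card F ^ (n + 1 + 1) :=
      (Nat.pow_le_pow_left hq 2).trans (Nat.pow_le_pow_right (by omega) (by omega))
    have := Nat.mul_le_mul_left (Fintype.card F ^ (n + 1 + 1)) hq
    omega

/-- Witnesses for the sign `-1` over the field of three elements. -/
theorem witness_neg_one (h3 : Fintype.card F = 3) (k : ℕ) (hk : 2 ≤ k) :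
    Witness (-1 : F) (2 * k) := by
  haveI : NeZero (2 * k) := ⟨by omega⟩
  obtain ⟨p, _⟩ := CharP.exists F
  haveI : Fact p.Prime := ⟨CharP.char_is_prime F p⟩
  set K := FiniteField.Extension F p (2 * k)
  letI : Fintype K := Fintype.ofFinite K
  have hfin : Module.finrank F K = 2 * k := FiniteField.finrank_extension F p (2 * k)
  classical
  obtain ⟨γ, hγ⟩ := IsCyclic.exists_generator (α := Kˣ)
  have hord : orderOf γ = 3 ^ (2 * k) - 1 := by
    rw [orderOf_eq_card_of_forall_mem_zpowers hγ, Nat.card_eq_fintype_card, Fintype.card_units,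
      Module.card_eq_pow_finrank (K := F) (V := K), hfin, h3]
  obtain ⟨r, hr⟩ : ∃ r, 3 ^ k + 1 = 2 * r := by
    have : Odd (3 ^ k) := (show Odd 3 by decide).pow
    obtain ⟨s, hs⟩ := this
    exact ⟨s + 1, by omega⟩
  obtain ⟨a, ha⟩ : ∃ a, 3 ^ k = a + 1 := ⟨3 ^ k - 1, by have := Nat.one_le_pow k 3 (by norm_num); omega⟩
  have hN : 3 ^ (2 * k) - 1 = 2 * r * a := by
    rw [← hr, two_mul k, pow_add, ha]
    have : (a + 1) * (a + 1) = (a + 1 + 1) * a + 1 := by ring
    omega
  have ha0 : 0 < a := by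
    have := Nat.pow_le_pow_right (show 0 < 3 by norm_num) hk
    omega
  set η := γ ^ r
  have hη : orderOf η = 2 * a := by
    rw [orderOf_pow' _ (by omega), hord, hN, mul_comm 2 r, mul_assoc, Nat.gcd_mul_right_left,
      Nat.mul_div_cancel_left _ (by omega)]
  have hneg : (η : K) ^ a = -1 := by
    have h2 : ((η : K) ^ a) * ((η : K) ^ a) = 1 := by
      rw [← pow_add, ← two_mul, ← hη, ← Units.val_pow_eq_pow_val, pow_orderOf_eq_one, Units.val_one]
    rcases mul_self_eq_one_iff.mp h2 with h | h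
    · exfalso
      have h' : η ^ a = 1 := Units.ext (by simpa using h)
      have := Nat.le_of_dvd ha0 (orderOf_dvd_of_pow_eq_one h')
      omega
    · exact h
  refine witness_of_field hfin η (-1) (FiniteField.frobeniusAlgEquivOfAlgebraic F K ^ k) ?_
    fun i hi he => ?_
  · have hit : ∀ n, (FiniteField.frobeniusAlgEquivOfAlgebraic F K ^ n) (η : K) = (η : K) ^ (3 ^ n) := by
      intro n
      simp [AlgEquiv.coe_pow, FiniteField.coe_frobeniusAlgEquivOfAlgebraic, pow_iterate, h3]
    rw [hit, ha, pow_succ, hneg, neg_one_mul, neg_smul, one_smul]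
  · rw [h3] at he
    have hdvd : a ∣ 3 ^ i + 1 := dvd_trans (dvd_mul_left a 2) (hη ▸ orderOf_dvd_of_pow_eq_one he)
    -- reduce `i` below `k`
    have hred : ∀ j, a ∣ 3 ^ (k + j) + 1 → a ∣ 3 ^ j + 1 := fun j hj => by
      rw [pow_add, ha] at hj
      have : (a + 1) * 3 ^ j + 1 = a * 3 ^ j + (3 ^ j + 1) := by ring
      rw [this] at hj
      exact (Nat.dvd_add_right (dvd_mul_right a _)).mp hj
    obtain ⟨j, hj, hjd⟩ : ∃ j < k, a ∣ 3 ^ j + 1 := by
      by_cases hik : i < k
      · exact ⟨i, hik, hdvd⟩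
      · exact ⟨i - k, by omega, hred _ (by rwa [Nat.add_sub_cancel' (not_lt.mp hik)])⟩
    have hle := Nat.le_of_dvd (Nat.succ_pos _) hjd
    have h1 : 3 * 3 ^ j ≤ 3 ^ k := by
      rw [← pow_succ']
      exact Nat.pow_le_pow_right (by norm_num) hj
    have h2 : 3 ^ 2 ≤ 3 ^ k := Nat.pow_le_pow_right (by norm_num) hk
    norm_num at h2
    omega

end CfsgLib.OreSp
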