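import Cfsg.Agent.OreSp.Atom
import Cfsg.Agent.OreSp.Witness

/-!
# Every isometry of a symplectic space is a commutator
-/

set_option autoImplicit false

namespace CfsgLib.OreSp

universe v w

variable {F : Type v} [Field F] [Fintype F]

theorem comm_space (X : Space.{v, w} F) (m : ℕ) (hX : Module.finrank F X.V = 2 * m) (hm : 1 ≤ m)
    (h1 : m = 1 → 4 ≤ Fintype.card F) (h2 : m = 2 → 3 ≤ Fintype.card F) : Comm X := by
  obtain ⟨G, M, hi, ⟨hG, hG'⟩, hM, hM'⟩ := exists_split_space X
  obtain ⟨e, he, -⟩ := id hi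
  have hdim : Module.finrank F G.V + Module.finrank F M.V = 2 * m := by
    rw [← finrank_prod_space, ← e.finrank_eq, hX]
  obtain ⟨k, hk⟩ := dim_even_of_good hG
  by_cases hth : (k = 1 → 4 ≤ Fintype.card F) ∧ (k = 2 → 3 ≤ Fintype.card F)
  · refine ((comm_of_good hG fun j hj => ?_).prod hM).of_iso hi.symm
    obtain rfl : j = k := by omega
    exact witness_one _ hth.1 hth.2
  have hq : 2 ≤ Fintype.card F := Fintype.one_lt_card
  rcases hM' with h0 | ⟨P, R, n, hiM, hR, htwo, hPg, hPd, hn, hP1⟩
  · obtain rfl : k = m := by omega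
    exact absurd ⟨h1, h2⟩ hth
  -- the field has three elements and `G` is a plane
  have hq2 : Fintype.card F ≠ 2 := by
    intro h
    apply htwo
    haveI := Fact.mk Nat.prime_two
    haveI : CharP F 2 := charP_of_card_eq_prime (p := 2) h
    exact CharTwo.two_eq_zero
  have hk1 : k = 1 ∧ Fintype.card F = 3 := by
    by_contra hh
    exact hth ⟨fun hk => by omega, fun hk => by omega⟩
  obtain ⟨rfl, h3⟩ := hk1
  rcases hG' with h4 | hc | hGn
  · omega
  · exact (hc.prod hM).of_iso hi.symm
  have hGP : Comm (G.prod P) := by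
    rcases eq_or_ne n 1 with rfl | hn1
    · exact comm_atom h3 G P (by omega) (by omega) (hP1 rfl)
    · refine comm_of_good_neg ((hGn.prod hPg).of_iso (iso_neg_prod G P)) fun j hj => ?_
      rw [finrank_prod_space] at hj
      obtain ⟨d, hd⟩ := hn
      obtain rfl : j = 2 * (d + 1) := by omega
      exact witness_neg_one h3 (d + 1) (by omega)
  exact (hGP.prod hR).of_iso ((hi.trans ((Iso.refl G).prod hiM)).trans (iso_prod_assoc G P R).symm).symm

end CfsgLib.OreSp
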