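import Cfsg.Agent.OreSp.Four
import Mathlib.LinearAlgebra.SymplecticGroup
import Mathlib.FieldTheory.Finite.Basic
import Mathlib.LinearAlgebra.Matrix.Trace
import Mathlib.RingTheory.AdjoinRoot
import Mathlib.Algebra.Polynomial.SpecificDegree

/-!
# Products of two conjugates of a semisimple element of `Sp₄`

If the first diagonal block `A` of `g` has determinant one and `A * Y₁` has the trace of `Y₁` for
some `Y₁` in a class with irreducible characteristic polynomial, the triangular decomposition of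
`g` writes it as a product of two conjugates of the block diagonal element of that class.
-/

set_option autoImplicit false

namespace CfsgLib.OreSp

open Matrix

universe v

variable {F : Type v} [Field F]

local notation "M₂" => Matrix (Fin 2) (Fin 2) F
local notation "Sp₄" => Matrix.symplecticGroup (Fin 2) F

/-- The block diagonal element. -/
def blockDiag4 (C : (M₂)ˣ) : Sp₄ :=
  ⟨fromBlocks (C : M₂) 0 0 ((C⁻¹ : (M₂)ˣ) : M₂)ᵀ, by
    rw [SymplecticGroup.mem_iff]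
    simp [Matrix.J, fromBlocks_transpose, fromBlocks_multiply, ← Matrix.transpose_mul]⟩

/-- The lower unitriangular element. -/
def lowTri4 (S : M₂) (hS : Sᵀ = S) : Sp₄ :=
  ⟨fromBlocks 1 0 S 1, by
    rw [SymplecticGroup.mem_iff]
    simp [Matrix.J, fromBlocks_transpose, fromBlocks_multiply, hS]⟩

theorem lowTri4_mul_blockDiag4 (S : M₂) (hS : Sᵀ = S) (C : (M₂)ˣ) :
    lowTri4 S hS * blockDiag4 C = blockDiag4 C *
      lowTri4 ((C : M₂)ᵀ * S * (C : M₂))
        (by simp [Matrix.transpose_mul, hS, Matrix.mul_assoc]) := by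
  apply Subtype.ext
  have h : ((C⁻¹ : (M₂)ˣ) : M₂)ᵀ * (C : M₂)ᵀ = 1 := by rw [← Matrix.transpose_mul]; simp
  simp [blockDiag4, lowTri4, fromBlocks_multiply, ← Matrix.mul_assoc, h, -Matrix.coe_units_inv]

theorem blockDiag4_mul (C C' : (M₂)ˣ) : blockDiag4 C * blockDiag4 C' = blockDiag4 (C * C') := by
  apply Subtype.ext
  simp [blockDiag4, fromBlocks_multiply, Matrix.transpose_mul]

/-- The element `J` of the group. -/
def swap4 : Sp₄ := ⟨Matrix.J (Fin 2) F, SymplecticGroup.J_mem _ _⟩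

/-- The transpose of a unit. -/
def unitTranspose (C : (M₂)ˣ) : (M₂)ˣ where
  val := (C : M₂)ᵀ
  inv := ((C⁻¹ : (M₂)ˣ) : M₂)ᵀ
  val_inv := by rw [← Matrix.transpose_mul]; simp
  inv_val := by rw [← Matrix.transpose_mul]; simp

/-- The trace-determinant class of a block. -/
def InClass (t n : F) (Z : M₂) : Prop := Z.trace = t ∧ Z.det = n

/-- The companion matrix. -/
def compMat (t n : F) : M₂ := !![0, -n; 1, t]

theorem compMat_inClass (t n : F) : InClass t n (compMat t n) := by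
  constructor <;> simp [compMat, Matrix.trace_fin_two, Matrix.det_fin_two]

theorem exists_conj_comp {t n : F} (hirr : ∀ x : F, x * x - t * x + n ≠ 0) {Z : M₂}
    (hZ : InClass t n Z) : ∃ C : (M₂)ˣ, Z * (C : M₂) = (C : M₂) * compMat t n := by
  obtain ⟨ht, hn⟩ := hZ
  rw [Matrix.trace_fin_two] at ht
  rw [Matrix.det_fin_two] at hn
  have hne : Z 1 0 ≠ 0 := fun h => hirr (Z 0 0) (by
    rw [h, mul_zero, sub_zero] at hn
    rw [← ht, ← hn]
    ring)
  have hd : IsUnit (!![1, Z 0 0; 0, Z 1 0] : M₂) := by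
    rw [Matrix.isUnit_iff_isUnit_det]
    simp [Matrix.det_fin_two, hne]
  refine ⟨hd.unit, ?_⟩
  rw [hd.unit_spec]
  ext i j
  fin_cases i <;> fin_cases j <;> simp [compMat, Matrix.mul_apply, Fin.sum_univ_two] <;>
    first
      | linear_combination (Z 0 0) * ht - hn
      | linear_combination (Z 1 0) * ht

/-- A triangular perturbation of the block diagonal element is conjugate to it. -/
theorem isConj_lowTri4_comp {t n : F} (hn1 : n ≠ 1) (hirr : ∀ x : F, x * x - t * x + n ≠ 0)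
    (Y : (M₂)ˣ) (hY : (Y : M₂) = compMat t n) (S : M₂) (hS : Sᵀ = S) :
    IsConj (blockDiag4 Y) (lowTri4 S hS * blockDiag4 Y) := by
  set T : M₂ := (Y : M₂)ᵀ * S * (Y : M₂)
  have hT : T 1 0 = T 0 1 := by
    have : Tᵀ = T := by simp [T, Matrix.transpose_mul, hS, Matrix.mul_assoc]
    exact (congrFun (congrFun this 1) 0).symm
  -- solve `Yᵀ R Y - R = T`
  set Δ : F := (n - 1) * ((n + 1) * (n + 1) - t * t) with hΔd
  have hΔ : Δ ≠ 0 := by
    refine mul_ne_zero (sub_ne_zero.mpr hn1) fun h => ?_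
    rcases mul_self_eq_mul_self_iff.mp (sub_eq_zero.mp h) with h' | h'
    · exact hirr 1 (by linear_combination h')
    · exact hirr (-1) (by linear_combination h')
  set β : F := T 0 1 - t * T 0 0
  set γ : F := T 1 1 + T 0 0 - t * t * T 0 0
  set a : F := (β * (-2 * n * t) + (n + 1) * γ) / Δ
  set b : F := (t * γ - (n * n - 1 + t * t) * β) / Δ
  let R : M₂ := !![a, b; b, a + T 0 0]
  have hR : Rᵀ = R := by
    ext i j
    fin_cases i <;> fin_cases j <;> rfl
  have h1 : t * a - (n + 1) * b = β := by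
    simp only [a, b]
    field_simp
    rw [hΔd]
    ring
  have h2 : (n * n - 1 + t * t) * a - 2 * n * t * b = γ := by
    simp only [a, b]
    field_simp
    rw [hΔd]
    ring
  have key : (Y : M₂)ᵀ * R * (Y : M₂) = R + T := by
    rw [hY]
    ext i j
    fin_cases i <;> fin_cases j <;>
      simp [compMat, R, Matrix.mul_apply, Fin.sum_univ_two, hT] <;>
      first
        | ring1
        | linear_combination h1
        | linear_combination h2
  rw [isConj_iff]
  refine ⟨lowTri4 R hR, mul_inv_eq_iff_eq_mul.mpr ?_⟩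
  have h' : ((Y⁻¹ : (M₂)ˣ) : M₂)ᵀ * (Y : M₂)ᵀ = 1 := by rw [← Matrix.transpose_mul]; simp
  have key' : R * (Y : M₂) = S * (Y : M₂) + ((Y⁻¹ : (M₂)ˣ) : M₂)ᵀ * R := by
    have := congrArg (((Y⁻¹ : (M₂)ˣ) : M₂)ᵀ * ·) key
    simp only [T, Matrix.mul_add, ← Matrix.mul_assoc, h', Matrix.one_mul] at this
    rw [this, add_comm]
  apply Subtype.ext
  simp [lowTri4, blockDiag4, fromBlocks_multiply, key', -Matrix.coe_units_inv]

theorem isConj_lowTri4 {t n : F} (hn1 : n ≠ 1) (hirr : ∀ x : F, x * x - t * x + n ≠ 0)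
    (Y : (M₂)ˣ) (hY : (Y : M₂) = compMat t n)
    (Z : (M₂)ˣ) (hZ : InClass t n (Z : M₂)) (S : M₂) (hS : Sᵀ = S) :
    IsConj (blockDiag4 Y) (lowTri4 S hS * blockDiag4 Z) := by
  obtain ⟨C, hC⟩ := exists_conj_comp hirr hZ
  have hC' : Z * C = C * Y := Units.ext (by simp [hC, hY])
  have hS' : ((C : M₂)ᵀ * S * (C : M₂))ᵀ = (C : M₂)ᵀ * S * (C : M₂) := by
    simp [Matrix.transpose_mul, hS, Matrix.mul_assoc]
  refine (isConj_lowTri4_comp hn1 hirr Y hY _ hS').trans (isConj_iff.mpr ⟨blockDiag4 C, ?_⟩)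
  rw [mul_inv_eq_iff_eq_mul]
  symm
  calc lowTri4 S hS * blockDiag4 Z * blockDiag4 C
      = lowTri4 S hS * (blockDiag4 C * blockDiag4 Y) := by
        rw [blockDiag4_mul C Y, ← hC', ← blockDiag4_mul Z C]; exact mul_assoc _ _ _
    _ = (lowTri4 S hS * blockDiag4 C) * blockDiag4 Y := (mul_assoc _ _ _).symm
    _ = (blockDiag4 C * lowTri4 _ hS') * blockDiag4 Y := by rw [lowTri4_mul_blockDiag4]
    _ = blockDiag4 C * (lowTri4 _ hS' * blockDiag4 Y) := mul_assoc _ _ _

theorem isConj_lowTri4' {t n : F} (hn1 : n ≠ 1) (hirr : ∀ x : F, x * x - t * x + n ≠ 0)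
    (Y : (M₂)ˣ) (hY : (Y : M₂) = compMat t n)
    (Z : (M₂)ˣ) (hZ : InClass t n (Z : M₂)) (S : M₂) (hS : Sᵀ = S) :
    IsConj (blockDiag4 Y) (blockDiag4 Z * lowTri4 S hS) :=
  (isConj_lowTri4 hn1 hirr Y hY Z hZ S hS).trans (isConj_iff.mpr ⟨blockDiag4 Z, by group⟩)

/-- The factorisation from a diagonal block. -/
theorem cover_of_block {t n : F} (hn1 : n ≠ 1) (hirr : ∀ x : F, x * x - t * x + n ≠ 0)
    (Y : (M₂)ˣ) (hY : (Y : M₂) = compMat t n)
    (g : Sp₄) (A Y₁ : (M₂)ˣ)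
    (hA : (g : Matrix (Fin 2 ⊕ Fin 2) (Fin 2 ⊕ Fin 2) F).toBlocks₁₁ = (A : M₂))
    (hY₁ : InClass t n (Y₁ : M₂)) (hAY : InClass t n ((A : M₂) * (Y₁ : M₂))) :
    ∃ y z : Sp₄, IsConj (blockDiag4 Y) y ∧ IsConj (blockDiag4 Y) z ∧ g = y * z := by
  obtain ⟨A₀, B, C, D, hgB⟩ : ∃ A₀ B C D,
      (g : Matrix (Fin 2 ⊕ Fin 2) (Fin 2 ⊕ Fin 2) F) = fromBlocks A₀ B C D :=
    ⟨_, _, _, _, (fromBlocks_toBlocks _).symm⟩
  rw [hgB, toBlocks_fromBlocks₁₁] at hA
  subst hA
  have hmem := SymplecticGroup.mem_iff'.mp g.2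
  rw [hgB] at hmem
  simp only [Matrix.J, fromBlocks_transpose, fromBlocks_multiply, fromBlocks_inj] at hmem
  obtain ⟨h11, -, -, -⟩ := hmem
  simp only [mul_zero, mul_one, zero_add, mul_neg, add_zero, neg_mul] at h11
  have hCA : Cᵀ * (A : M₂) = (A : M₂)ᵀ * C := eq_of_sub_eq_zero (by rw [sub_eq_add_neg]; exact h11)
  set Ai : M₂ := ((A⁻¹ : (M₂)ˣ) : M₂)
  have hAiA : Ai * (A : M₂) = 1 := by simp [Ai]
  have hAAi : (A : M₂) * Ai = 1 := by simp [Ai]
  have hS : (C * Ai)ᵀ = C * Ai := by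
    have h' : Aiᵀ * (A : M₂)ᵀ = 1 := by rw [← Matrix.transpose_mul, hAAi, Matrix.transpose_one]
    calc (C * Ai)ᵀ = Aiᵀ * (Cᵀ * (A : M₂)) * Ai := by
          rw [Matrix.transpose_mul, Matrix.mul_assoc, Matrix.mul_assoc, hAAi, Matrix.mul_one]
      _ = C * Ai := by rw [hCA, ← Matrix.mul_assoc, h', Matrix.one_mul]
  obtain ⟨U, hU⟩ : ∃ U : Sp₄, g = lowTri4 (C * Ai) hS * blockDiag4 A * U :=
    ⟨_, (mul_inv_cancel_left _ g).symm⟩
  obtain ⟨U₁, U₂, U₃, U₄, hUB⟩ : ∃ a b c d,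
      (U : Matrix (Fin 2 ⊕ Fin 2) (Fin 2 ⊕ Fin 2) F) = fromBlocks a b c d :=
    ⟨_, _, _, _, (fromBlocks_toBlocks _).symm⟩
  have h := congrArg (fun x : Sp₄ => (x : Matrix (Fin 2 ⊕ Fin 2) (Fin 2 ⊕ Fin 2) F)) hU
  simp only [Submonoid.coe_mul, hgB, hUB, lowTri4, blockDiag4, fromBlocks_multiply, fromBlocks_inj,
    Matrix.mul_zero, Matrix.zero_mul, add_zero, zero_add, Matrix.one_mul, Matrix.mul_one] at h
  obtain ⟨e1, e2, e3, -⟩ := h
  have hU1 : U₁ = 1 := by
    calc U₁ = Ai * ((A : M₂) * U₁) := by rw [← Matrix.mul_assoc, hAiA, Matrix.one_mul]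
      _ = 1 := by rw [← e1, hAiA]
  have hU3 : U₃ = 0 := by
    rw [Matrix.mul_assoc C Ai, hAiA, Matrix.mul_one, hU1, Matrix.mul_one] at e3
    have h0 : Aiᵀ * U₃ = 0 := add_left_cancel (e3.symm.trans (add_zero C).symm)
    calc U₃ = (A : M₂)ᵀ * (Aiᵀ * U₃) := by
          rw [← Matrix.mul_assoc, ← Matrix.transpose_mul, hAiA, Matrix.transpose_one, Matrix.one_mul]
      _ = 0 := by rw [h0, Matrix.mul_zero]
  subst hU1 hU3
  have hmemU := SymplecticGroup.mem_iff.mp U.2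
  rw [hUB] at hmemU
  simp only [Matrix.J, fromBlocks_transpose, fromBlocks_multiply, fromBlocks_inj] at hmemU
  obtain ⟨u11, u12, -, -⟩ := hmemU
  simp only [mul_zero, mul_one, zero_add, mul_neg, add_zero, transpose_one, transpose_zero,
    neg_mul, one_mul] at u11 u12
  have hT : (-U₂)ᵀ = -U₂ := by
    rw [Matrix.transpose_neg, neg_inj]
    exact (eq_of_sub_eq_zero (by rw [sub_eq_add_neg]; exact u11)).symm
  have hU4 : U₄ = 1 := Matrix.transpose_injective (by rw [Matrix.transpose_one]; exact neg_inj.mp u12)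
  subst hU4
  have hUl : U = swap4 * lowTri4 (-U₂) hT * swap4⁻¹ := by
    rw [eq_mul_inv_iff_mul_eq]
    apply Subtype.ext
    simp only [Submonoid.coe_mul, hUB]
    simp [swap4, lowTri4, Matrix.J, fromBlocks_multiply]
  refine ⟨lowTri4 (C * Ai) hS * blockDiag4 (A * Y₁),
    swap4 * (blockDiag4 (unitTranspose Y₁) * lowTri4 (-U₂) hT) * swap4⁻¹,
    isConj_lowTri4 hn1 hirr Y hY _ (by rw [Units.val_mul]; exact hAY) _ hS,
    (isConj_lowTri4' hn1 hirr Y hY (unitTranspose Y₁)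
      ⟨(Matrix.trace_transpose _).trans hY₁.1, (Matrix.det_transpose _).trans hY₁.2⟩ _ hT).trans
      (isConj_iff.mpr ⟨swap4, rfl⟩), ?_⟩
  have hJd : blockDiag4 Y₁⁻¹ * swap4 = swap4 * blockDiag4 (unitTranspose Y₁) := by
    apply Subtype.ext
    simp [blockDiag4, swap4, unitTranspose, Matrix.J, fromBlocks_multiply]
  rw [hU, hUl, ← blockDiag4_mul A Y₁]
  have : swap4 * (blockDiag4 (unitTranspose Y₁) * lowTri4 (-U₂) hT) =
      blockDiag4 Y₁⁻¹ * swap4 * lowTri4 (-U₂) hT := by rw [hJd, mul_assoc]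
  rw [this]
  have hinv : blockDiag4 Y₁ * blockDiag4 Y₁⁻¹ = 1 := by
    rw [blockDiag4_mul, mul_inv_cancel]
    apply Subtype.ext
    simp [blockDiag4]
  simp only [mul_assoc]
  rw [← mul_assoc (blockDiag4 Y₁) (blockDiag4 Y₁⁻¹), hinv, one_mul]

theorem exists_trace_norm [Fintype F] (h3 : 3 ≤ Fintype.card F) :
    ∃ t n : F, n ≠ 0 ∧ n ≠ 1 ∧ ∀ x : F, x * x - t * x + n ≠ 0 := by
  classical
  obtain ⟨n, hn⟩ : ∃ n : F, n ∉ ({0, 1} : Finset F) := by
    by_contra hh
    push Not at hh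
    have := Finset.card_le_card (fun x _ => hh x : (Finset.univ : Finset F) ⊆ {0, 1})
    rw [Finset.card_univ] at this
    have := this.trans Finset.card_le_two
    omega
  simp only [Finset.mem_insert, Finset.mem_singleton, not_or] at hn
  let f : Fˣ → F := fun x => (x : F) + n / x
  obtain ⟨t, ht⟩ : ∃ t, t ∉ Set.range f := by
    by_contra hh
    push Not at hh
    have hs : Function.Surjective f := fun y => hh y
    have := Fintype.card_le_of_surjective f hs
    rw [Fintype.card_units] at this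
    omega
  refine ⟨t, n, hn.1, hn.2, fun x hx => ?_⟩
  rcases eq_or_ne x 0 with rfl | hx0
  · exact hn.1 (by simpa using hx)
  · exact ht ⟨Units.mk0 x hx0, by
      simp only [f, Units.val_mk0]
      field_simp
      linear_combination hx⟩

theorem pow_card_sub_one_comp [Fintype F] (p : ℕ) [Fact p.Prime] [CharP F p] {t n : F} (hn : n ≠ 0)
    (hirr : ∀ x : F, x * x - t * x + n ≠ 0) :
    ∃ N : ℕ, ¬ p ∣ N ∧ compMat t n ^ N = 1 := by
  classical
  set f : Polynomial F := Polynomial.X ^ 2 - Polynomial.C t * Polynomial.X + Polynomial.C n with hf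
  have hdeg : f.natDegree = 2 := by rw [hf]; compute_degree!
  have hf0 : f ≠ 0 := fun h => by rw [h, Polynomial.natDegree_zero] at hdeg; omega
  haveI : Fact (Irreducible f) := ⟨Polynomial.irreducible_of_degree_le_three_of_not_isRoot
    (by rw [hdeg]; decide) fun x h => hirr x (by
      simp only [hf, Polynomial.IsRoot, Polynomial.eval_add, Polynomial.eval_sub, Polynomial.eval_pow,
        Polynomial.eval_mul, Polynomial.eval_X, Polynomial.eval_C] at h
      linear_combination h)⟩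
  haveI : Module.Finite F (AdjoinRoot f) := (AdjoinRoot.powerBasis hf0).finite
  haveI : Finite (AdjoinRoot f) := Module.finite_of_finite F
  letI : Fintype (AdjoinRoot f) := Fintype.ofFinite _
  haveI : CharP (AdjoinRoot f) p :=
    charP_of_injective_algebraMap (algebraMap F (AdjoinRoot f)).injective p
  refine ⟨Fintype.card (AdjoinRoot f) - 1, ?_, ?_⟩
  · obtain ⟨k, hp, hk⟩ := FiniteField.card (AdjoinRoot f) p
    rw [hk]
    intro h
    have h1 : p ∣ p ^ (k : ℕ) := dvd_pow_self p k.ne_zero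
    have h2 : 1 ≤ p ^ (k : ℕ) := Nat.one_le_pow _ _ hp.pos
    have := Nat.dvd_sub h1 h
    rw [Nat.sub_sub_self h2] at this
    exact hp.not_dvd_one this
  · have hr0 : AdjoinRoot.root f ≠ 0 := fun h => by
      have := AdjoinRoot.eval₂_root f
      rw [h, Polynomial.eval₂_at_zero, hf] at this
      simp at this
      exact hn this
    have hdvd : f ∣ Polynomial.X ^ (Fintype.card (AdjoinRoot f) - 1) - 1 := by
      rw [← AdjoinRoot.mk_eq_zero, map_sub, map_pow, AdjoinRoot.mk_X, map_one,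
        FiniteField.pow_card_sub_one_eq_one _ hr0, sub_self]
    obtain ⟨g, hg⟩ := hdvd
    have h0 : Polynomial.aeval (compMat t n) f = 0 := by
      simp only [hf, map_add, map_sub, map_mul, map_pow, Polynomial.aeval_X, Polynomial.aeval_C,
        ← Algebra.smul_def, Algebra.algebraMap_eq_smul_one]
      ext i j
      fin_cases i <;> fin_cases j <;>
        simp [compMat, pow_two, Matrix.mul_apply, Fin.sum_univ_two] <;> ring
    have := congrArg (Polynomial.aeval (compMat t n)) hg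
    rw [map_mul, h0, zero_mul, map_sub, map_pow, Polynomial.aeval_X, map_one, sub_eq_zero] at this
    exact this

theorem exists_rotation_class [Fintype F] (htwo : (2 : F) ≠ 0) (t n : F) :
    ∃ Y₁ : M₂, InClass t n Y₁ ∧ InClass t n (!![0, -1; 1, 0] * Y₁) := by
  have hR : Fintype.card F % 2 = 1 := FiniteField.odd_card_of_char_ne_two fun h => htwo (by
    haveI : CharP F 2 := h ▸ ringChar.charP F
    exact CharTwo.two_eq_zero)
  set f : Polynomial F := Polynomial.X ^ 2 - Polynomial.C t * Polynomial.X with hf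
  set g : Polynomial F := Polynomial.X ^ 2 + Polynomial.C t * Polynomial.X + Polynomial.C n with hg
  obtain ⟨a, c, hac⟩ := FiniteField.exists_root_sum_quadratic (f := f) (g := g)
    (by rw [hf]; compute_degree!) (by rw [hg]; compute_degree!) hR
  simp [hf, hg] at hac
  refine ⟨!![a, c + t; c, t - a], ?_, ?_⟩ <;> constructor <;>
    simp [Matrix.trace_fin_two, Matrix.det_fin_two] <;>
    first
      | ring1
      | linear_combination (-1 : F) * hac

theorem exists_conj_of_frame {X : Space.{v, v} F} (e : X.V ≃ₗ[F] (Fin 2 ⊕ Fin 2 → F))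
    (hB : ∀ a b, X.B a b = e a ⬝ᵥ (Matrix.J (Fin 2) F *ᵥ e b)) (g : Sp₄)
    (hg : ∀ a, e (X.g a) = (g : Matrix (Fin 2 ⊕ Fin 2) (Fin 2 ⊕ Fin 2) F) *ᵥ e a) {A : M₂}
    (hX : Frame X A) :
    ∃ P : Sp₄, ((P⁻¹ * g * P : Sp₄) : Matrix (Fin 2 ⊕ Fin 2) (Fin 2 ⊕ Fin 2) F).toBlocks₁₁ = A := by
  obtain ⟨l, m, C, hll, hmm, hlm, hgl⟩ := hX
  let P0 : Matrix (Fin 2 ⊕ Fin 2) (Fin 2 ⊕ Fin 2) F :=
    Matrix.of fun r c => e (Sum.elim l m c) r
  have hcol : ∀ c, P0 *ᵥ Pi.single c 1 = e (Sum.elim l m c) := fun c => by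
    rw [Matrix.mulVec_single_one]
    rfl
  have hP0 : P0ᵀ * Matrix.J (Fin 2) F * P0 = Matrix.J (Fin 2) F := by
    refine Matrix.ext fun a b => ?_
    have h1 := form_mulVec P0 (Matrix.J (Fin 2) F) (Pi.single a 1) (Pi.single b 1)
    rw [hcol, hcol, ← hB, single_one_dotProduct, Matrix.mulVec_single_one] at h1
    change X.B _ _ = (P0ᵀ * Matrix.J (Fin 2) F * P0) a b at h1
    rw [← h1]
    rcases a with i | i <;> rcases b with j | j
    · simp [hll, Matrix.J]
    · simp only [Sum.elim_inl, Sum.elim_inr, hlm, Matrix.J, fromBlocks_apply₁₂, Matrix.neg_apply,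
        Matrix.one_apply]
      split_ifs <;> simp
    · simp only [Sum.elim_inl, Sum.elim_inr, X.swap (l j) (m i), hlm, Matrix.J, fromBlocks_apply₂₁,
        Matrix.one_apply]
      rcases eq_or_ne i j with rfl | hij
      · simp
      · simp [hij, Ne.symm hij]
    · simp [hmm, Matrix.J]
  let P : Sp₄ := ⟨P0, SymplecticGroup.mem_iff'.mpr hP0⟩
  refine ⟨P, Matrix.ext fun i j => ?_⟩
  have h1 : P0 *ᵥ Sum.elim (fun i => A i j) (fun i => C i j) = e (X.g (l j)) := by
    rw [hgl, map_add, map_sum, map_sum]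
    simp only [map_smul]
    funext r
    simp [Matrix.mulVec, dotProduct, P0, Fintype.sum_sum_type, mul_comm]
  have h2 : (P⁻¹ * g * P : Sp₄).1 *ᵥ Pi.single (Sum.inl j) 1 =
      Sum.elim (fun i => A i j) (fun i => C i j) := by
    rw [Submonoid.coe_mul, Submonoid.coe_mul, ← Matrix.mulVec_mulVec, ← Matrix.mulVec_mulVec]
    show _ *ᵥ (g.1 *ᵥ (P0 *ᵥ _)) = _
    rw [hcol, Sum.elim_inl, ← hg, ← h1, Matrix.mulVec_mulVec,
      show ((P⁻¹ : Sp₄) : Matrix (Fin 2 ⊕ Fin 2) (Fin 2 ⊕ Fin 2) F) * P0 =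
        ((P⁻¹ * P : Sp₄) : Matrix (Fin 2 ⊕ Fin 2) (Fin 2 ⊕ Fin 2) F) from rfl,
      inv_mul_cancel, OneMemClass.coe_one, Matrix.one_mulVec]
  rw [Matrix.mulVec_single_one] at h2
  exact congrFun h2 (Sum.inl i)

/-- Up to sign every element of `Sp₄` is a product of two conjugates of a fixed element of order
prime to the characteristic. -/
theorem exists_cover_sp4 [Fintype F] (p : ℕ) [Fact p.Prime] [CharP F p] (h3 : 3 ≤ Fintype.card F) :
    ∃ x : Sp₄, ¬ p ∣ orderOf x ∧ ∀ g : Sp₄, ∃ y z : Sp₄, IsConj x y ∧ IsConj x z ∧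
      ∃ ζ ∈ Subgroup.center Sp₄, ζ * g = y * z := by
  obtain ⟨t, n, hn0, hn1, hirr⟩ := exists_trace_norm h3
  obtain ⟨N, hN, hpow⟩ := pow_card_sub_one_comp p hn0 hirr
  have hcd : IsUnit (compMat t n) := by
    rw [Matrix.isUnit_iff_isUnit_det, (compMat_inClass t n).2]
    exact isUnit_iff_ne_zero.mpr hn0
  let Y : (M₂)ˣ := hcd.unit
  let φ : (M₂)ˣ →* Sp₄ := MonoidHom.mk' blockDiag4 fun a b => (blockDiag4_mul a b).symm
  refine ⟨φ Y, fun h => hN (h.trans ((orderOf_map_dvd φ Y).trans (orderOf_dvd_of_pow_eq_one ?_))), ?_⟩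
  · exact Units.ext (by rw [Units.val_pow_eq_pow_val, hcd.unit_spec, hpow, Units.val_one])
  intro g
  have hcls : ∀ (g : Sp₄) (A : (M₂)ˣ) (Y₁ : M₂) (X : Space.{v, v} F)
      (e : X.V ≃ₗ[F] (Fin 2 ⊕ Fin 2 → F)),
      (∀ a b, X.B a b = e a ⬝ᵥ (Matrix.J (Fin 2) F *ᵥ e b)) →
      (∀ a, e (X.g a) = (g : Matrix (Fin 2 ⊕ Fin 2) (Fin 2 ⊕ Fin 2) F) *ᵥ e a) →
      Frame X (A : M₂) → InClass t n Y₁ → InClass t n ((A : M₂) * Y₁) →
      ∃ y z : Sp₄, IsConj (φ Y) y ∧ IsConj (φ Y) z ∧ g = y * z := by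
    intro g A Y₁ X e hB hg hX h1 h2
    obtain ⟨P, hP⟩ := exists_conj_of_frame e hB g hg hX
    have hu : IsUnit Y₁ := by
      rw [Matrix.isUnit_iff_isUnit_det, h1.2]
      exact isUnit_iff_ne_zero.mpr hn0
    obtain ⟨y, z, hy, hz, hyz⟩ :=
      cover_of_block hn1 hirr Y hcd.unit_spec (P⁻¹ * g * P) A hu.unit hP h1 h2
    refine ⟨P * y * P⁻¹, P * z * P⁻¹, hy.trans (isConj_iff.mpr ⟨P, rfl⟩),
      hz.trans (isConj_iff.mpr ⟨P, rfl⟩), ?_⟩
    calc g = P * (P⁻¹ * g * P) * P⁻¹ := by group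
      _ = P * y * P⁻¹ * (P * z * P⁻¹) := by rw [hyz]; group
  have hgI : ∀ u v, ((g : Matrix _ _ F) *ᵥ u) ⬝ᵥ (Matrix.J (Fin 2) F *ᵥ ((g : Matrix _ _ F) *ᵥ v)) =
      u ⬝ᵥ (Matrix.J (Fin 2) F *ᵥ v) := by
    intro u v
    rw [form_mulVec, SymplecticGroup.mem_iff'.mp g.2]
  have hinv : Function.Injective
      (Matrix.mulVecLin (g : Matrix (Fin 2 ⊕ Fin 2) (Fin 2 ⊕ Fin 2) F)) :=
    Matrix.mulVec_injective_iff_isUnit.mpr
      (Matrix.isUnit_iff_isUnit_det _ |>.mpr (SymplecticGroup.symplectic_det g.2))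
  let X : Space.{v, v} F :=
    { V := (Fin 2 ⊕ Fin 2) → F
      B := Matrix.toLinearMap₂' F (Matrix.J (Fin 2) F)
      alt := fun u => by
        rw [Matrix.toLinearMap₂'_apply']
        simp [Matrix.J, Matrix.mulVec, dotProduct, Matrix.one_apply, mul_comm]
        ring
      nd := fun u hu => by
        refine dotProduct_eq_zero u fun v => ?_
        obtain ⟨z, hz⟩ : ∃ z, Matrix.J (Fin 2) F *ᵥ z = v := by
          refine Matrix.mulVec_surjective_iff_isUnit.mpr ?_ v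
          exact (Matrix.isUnit_iff_isUnit_det _).mpr (Matrix.isUnit_det_J (Fin 2) F)
        rw [← hz, ← Matrix.toLinearMap₂'_apply']
        exact hu z
      g := LinearEquiv.ofBijective (Matrix.mulVecLin (g : Matrix (Fin 2 ⊕ Fin 2) (Fin 2 ⊕ Fin 2) F))
        ⟨hinv, LinearMap.injective_iff_surjective.mp hinv⟩
      isom := fun u v => by
        simp only [LinearEquiv.ofBijective_apply, Matrix.mulVecLin_apply, Matrix.toLinearMap₂'_apply']
        exact hgI u v }
  have hB : ∀ a b, X.B a b = a ⬝ᵥ (Matrix.J (Fin 2) F *ᵥ b) := fun a b =>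
    Matrix.toLinearMap₂'_apply' ..
  rcases frame_cases X (by
      show Module.finrank F ((Fin 2 ⊕ Fin 2) → F) = 4
      simp) with h | h | ⟨htwo, h⟩
  · obtain ⟨y, z, hy, hz, hyz⟩ := hcls g 1 (compMat t n) X (LinearEquiv.refl F _) hB (fun _ => rfl)
      (by rw [Units.val_one]; exact h) (compMat_inClass t n)
      (by rw [Units.val_one, Matrix.one_mul]; exact compMat_inClass t n)
    exact ⟨y, z, hy, hz, 1, one_mem _, by rw [one_mul, hyz]⟩
  · let ζ : Sp₄ := ⟨-1, SymplecticGroup.mem_iff.mpr (by simp)⟩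
    have hζ : ζ ∈ Subgroup.center Sp₄ := Subgroup.mem_center_iff.mpr fun k => Subtype.ext (by simp [ζ])
    obtain ⟨y, z, hy, hz, hyz⟩ := hcls (ζ * g) 1 (compMat t n) X.neg (LinearEquiv.refl F _) hB
      (fun a => by
        rw [Submonoid.coe_mul, ← Matrix.mulVec_mulVec, neg_mulVec, one_mulVec]
        rfl)
      (by rw [Units.val_one]; exact h) (compMat_inClass t n)
      (by rw [Units.val_one, Matrix.one_mul]; exact compMat_inClass t n)
    exact ⟨y, z, hy, hz, ζ, hζ, hyz⟩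
  · obtain ⟨Y₁, h1, h2⟩ := exists_rotation_class htwo t n
    have hA : IsUnit (!![0, -1; 1, 0] : M₂) := by
      rw [Matrix.isUnit_iff_isUnit_det]
      simp [Matrix.det_fin_two]
    obtain ⟨y, z, hy, hz, hyz⟩ := hcls g hA.unit Y₁ X (LinearEquiv.refl F _) hB (fun _ => rfl)
      (by rw [hA.unit_spec]; exact h) h1 (by rw [hA.unit_spec]; exact h2)
    exact ⟨y, z, hy, hz, 1, one_mem _, by rw [one_mul, hyz]⟩

end CfsgLib.OreSp
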