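import Mathlib.RingTheory.Polynomial.Basic
import Mathlib.RingTheory.Coprime.Lemmas
import Mathlib.RingTheory.UniqueFactorizationDomain.Multiplicity
import Mathlib.RingTheory.Polynomial.UniqueFactorization
import Mathlib.Algebra.Polynomial.Coeff
import Mathlib.Tactic.LinearCombination

/-!
# Lowest terms of polynomials modulo a power of the variable
-/

set_option autoImplicit false

namespace CfsgLib.OreSp

open Polynomial

universe v

variable {F : Type v} [Field F]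

theorem dvd_lead {n a : ℕ} {U : F[X]} (hU : U.coeff 0 ≠ 0) (h : X ^ n ∣ X ^ a * U) : n ≤ a := by
  by_contra hn
  rw [not_le] at hn
  obtain ⟨c, hc⟩ := h
  have h1 : U = X ^ (n - a) * c := by
    have h2 : X ^ a * U = X ^ a * (X ^ (n - a) * c) := by
      rw [hc, ← mul_assoc, ← pow_add, Nat.add_sub_cancel' hn.le]
    exact mul_left_cancel₀ (pow_ne_zero a X_ne_zero) h2
  apply hU
  rw [h1, coeff_X_pow_mul', if_neg (by omega)]

theorem exists_lead {r : F[X]} (hr : r ≠ 0) :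
    ∃ (i : ℕ) (r₀ : F[X]), r₀.coeff 0 ≠ 0 ∧ r = X ^ i * r₀ := by
  obtain ⟨c, hc, hn⟩ := (FiniteMultiplicity.of_not_isUnit (prime_X.not_isUnit) hr).exists_eq_pow_mul_and_not_dvd
  exact ⟨_, c, fun h => hn (X_dvd_iff.mpr h), hc⟩

/-- The lowest term of `r (z² u)`. -/
theorem comp_lead {u r : F[X]} (hu : u.coeff 0 ≠ 0) (hr : r ≠ 0) :
    ∃ (i : ℕ) (U : F[X]), i ≤ r.natDegree ∧ U.coeff 0 ≠ 0 ∧ r.comp (X ^ 2 * u) = X ^ (2 * i) * U := by
  obtain ⟨i, r₀, h0, rfl⟩ := exists_lead hr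
  refine ⟨i, u ^ i * r₀.comp (X ^ 2 * u), ?_, ?_, ?_⟩
  · rw [natDegree_mul (pow_ne_zero i X_ne_zero) (fun h => h0 (by rw [h, coeff_zero])), natDegree_X_pow]
    exact Nat.le_add_right _ _
  · rw [coeff_zero_eq_eval_zero, eval_mul, eval_pow, eval_comp, eval_mul, eval_pow, eval_X,
      zero_pow two_ne_zero, zero_mul, ← coeff_zero_eq_eval_zero, ← coeff_zero_eq_eval_zero]
    exact mul_ne_zero (pow_ne_zero i hu) h0
  · rw [mul_comp, pow_comp, X_comp, mul_pow, ← pow_mul, mul_assoc]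

/-- Odd and even lowest exponents do not cancel. -/
theorem parity {n : ℕ} {u r r₂ : F[X]} (hu : u.coeff 0 ≠ 0)
    (h : X ^ n ∣ X * r.comp (X ^ 2 * u) - r₂.comp (X ^ 2 * u)) :
    X ^ n ∣ X * r.comp (X ^ 2 * u) := by
  rcases eq_or_ne r 0 with rfl | hr
  · simp
  obtain ⟨i, U, -, hU, hrU⟩ := comp_lead hu hr
  by_contra hn
  have hi : 2 * i + 1 < n := by
    by_contra hi
    apply hn
    rw [hrU, ← mul_assoc, ← pow_succ']
    exact Dvd.dvd.mul_right (pow_dvd_pow X (by omega)) _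
  rcases eq_or_ne r₂ 0 with rfl | hr2
  · rw [zero_comp, sub_zero] at h
    exact hn h
  obtain ⟨j, U', -, hU', hrU'⟩ := comp_lead hu hr2
  rw [hrU, hrU', ← mul_assoc, ← pow_succ'] at h
  rcases le_or_gt (2 * i + 2) (2 * j) with hij | hij
  · have h1 : X ^ (2 * i + 2) ∣ X ^ (2 * i + 1) * U := by
      have := dvd_add ((pow_dvd_pow X (show 2 * i + 2 ≤ n by omega)).trans h)
        (Dvd.dvd.mul_right (pow_dvd_pow X hij) U')
      rwa [sub_add_cancel] at this
    have := dvd_lead hU h1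
    omega
  · have h1 : X ^ (2 * j + 1) ∣ X ^ (2 * j) * U' := by
      have := dvd_sub (Dvd.dvd.mul_right (pow_dvd_pow X (show 2 * j + 1 ≤ 2 * i + 1 by omega)) U)
        ((pow_dvd_pow X (show 2 * j + 1 ≤ n by omega)).trans h)
      rwa [sub_sub_cancel] at this
    have := dvd_lead hU' h1
    omega

theorem coprime_X_pow {a : F[X]} (ha : a.coeff 0 ≠ 0) (n : ℕ) : IsCoprime (X ^ n) a :=
  (irreducible_X.coprime_iff_not_dvd.mpr fun h => ha (X_dvd_iff.mp h)).pow_left

end CfsgLib.OreSp
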