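import Mathlib.LinearAlgebra.BilinearForm.Orthogonal
import Mathlib.LinearAlgebra.Projection
import Mathlib.LinearAlgebra.Prod
import Mathlib.LinearAlgebra.Matrix.ToLin

/-!
# Symplectic spaces with an isometry

The objects of the proof that every isometry of a symplectic space is a commutator: a space, an
alternating non-degenerate form and an isometry, together with sums, isomorphisms and negation.
-/

set_option autoImplicit false

namespace CfsgLib.OreSp

open LinearMap Submodule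

universe v w

variable {F : Type v} [Field F]

/-- A symplectic space with an isometry. -/
structure Space (F : Type v) [Field F] : Type (max v (w + 1)) where
  /-- The carrier. -/
  V : Type w
  [acg : AddCommGroup V]
  [mdl : Module F V]
  [fd : FiniteDimensional F V]
  /-- The form. -/
  B : LinearMap.BilinForm F V
  alt : ∀ x, B x x = 0
  nd : ∀ x, (∀ y, B x y = 0) → x = 0
  /-- The isometry. -/
  g : V ≃ₗ[F] V
  isom : ∀ x y, B (g x) (g y) = B x y

attribute [instance] Space.acg Space.mdl Space.fd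

/-- Half the trace: `g + g⁻¹`. -/
def Space.s (X : Space.{v, w} F) : Module.End F X.V := X.g.toLinearMap + X.g.symm.toLinearMap

theorem Space.swap (X : Space.{v, w} F) (x y : X.V) : X.B y x = -X.B x y := by
  have h := X.alt (x + y)
  simp only [map_add, LinearMap.add_apply, X.alt, zero_add, add_zero] at h
  exact eq_neg_of_add_eq_zero_left h

theorem Space.nd' (X : Space.{v, w} F) (y : X.V) (h : ∀ x, X.B x y = 0) : y = 0 :=
  X.nd y fun x => by rw [X.swap, h, neg_zero]

theorem Space.isom_symm (X : Space.{v, w} F) (x y : X.V) :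
    X.B (X.g.symm x) (X.g.symm y) = X.B x y := by
  rw [← X.isom, LinearEquiv.apply_symm_apply, LinearEquiv.apply_symm_apply]

theorem Space.adj (X : Space.{v, w} F) (x y : X.V) : X.B (X.g x) y = X.B x (X.g.symm y) := by
  rw [← X.isom x (X.g.symm y), LinearEquiv.apply_symm_apply]

theorem Space.adj' (X : Space.{v, w} F) (x y : X.V) : X.B (X.g.symm x) y = X.B x (X.g y) := by
  rw [← X.isom_symm x (X.g y), LinearEquiv.symm_apply_apply]

theorem Space.s_apply (X : Space.{v, w} F) (x : X.V) : X.s x = X.g x + X.g.symm x := rfl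

theorem Space.s_adj (X : Space.{v, w} F) (x y : X.V) : X.B (X.s x) y = X.B x (X.s y) := by
  simp only [Space.s_apply, map_add, LinearMap.add_apply, X.adj, X.adj']
  rw [add_comm]

theorem Space.s_comm (X : Space.{v, w} F) (x : X.V) : X.s (X.g x) = X.g (X.s x) := by
  simp [Space.s_apply]

/-- `x` preserves the form. -/
def IsIsom (X : Space.{v, w} F) (x : X.V ≃ₗ[F] X.V) : Prop := ∀ u v, X.B (x u) (x v) = X.B u v

/-- The isometry is a commutator of isometries. -/
def Comm (X : Space.{v, w} F) : Prop :=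
  ∃ x y : X.V ≃ₗ[F] X.V, IsIsom X x ∧ IsIsom X y ∧ ∀ v, X.g (y (x v)) = x (y v)

/-- There is a Lagrangian `L`, invariant under `g + g⁻¹`, with `(g - 1) L ∩ L = 0`. -/
def Good (X : Space.{v, w} F) : Prop :=
  ∃ L : Submodule F X.V, (∀ a ∈ L, ∀ b ∈ L, X.B a b = 0) ∧
    Module.finrank F X.V = 2 * Module.finrank F L ∧ (∀ l ∈ L, X.s l ∈ L) ∧
    ∀ l ∈ L, X.g l - l ∈ L → X.g l = l

/-- The negative isometry. -/
abbrev Space.neg (X : Space.{v, w} F) : Space.{v, w} F where
  V := X.V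
  B := X.B
  alt := X.alt
  nd := X.nd
  g := X.g.trans (LinearEquiv.neg F)
  isom x y := by simp [X.isom]

theorem Space.neg_g_apply (X : Space.{v, w} F) (x : X.V) : X.neg.g x = -X.g x := rfl

theorem Space.neg_g_symm_apply (X : Space.{v, w} F) (x : X.V) : X.neg.g.symm x = -X.g.symm x := by
  apply X.neg.g.injective
  rw [LinearEquiv.apply_symm_apply]
  show x = -X.g (-X.g.symm x)
  simp

theorem Space.neg_s_apply (X : Space.{v, w} F) (x : X.V) : X.neg.s x = -X.s x := by
  rw [Space.s_apply, Space.s_apply, X.neg_g_apply, X.neg_g_symm_apply, neg_add]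

/-- Orthogonal sum. -/
noncomputable abbrev Space.prod (X Y : Space.{v, w} F) : Space.{v, w} F where
  V := X.V × Y.V
  B := X.B.compl₁₂ (LinearMap.fst F X.V Y.V) (LinearMap.fst F X.V Y.V) +
    Y.B.compl₁₂ (LinearMap.snd F X.V Y.V) (LinearMap.snd F X.V Y.V)
  alt x := by simp [X.alt, Y.alt]
  nd x h := by
    refine Prod.ext (X.nd _ fun y => ?_) (Y.nd _ fun y => ?_)
    · simpa using h (y, 0)
    · simpa using h (0, y)
  g := X.g.prodCongr Y.g
  isom x y := by simp [X.isom, Y.isom]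

theorem Space.prod_B (X Y : Space.{v, w} F) (a b : X.V × Y.V) :
    (X.prod Y).B a b = X.B a.1 b.1 + Y.B a.2 b.2 := rfl

theorem Space.prod_g (X Y : Space.{v, w} F) (a : X.V × Y.V) :
    (X.prod Y).g a = (X.g a.1, Y.g a.2) := rfl

theorem Space.prod_s (X Y : Space.{v, w} F) (a : X.V × Y.V) :
    (X.prod Y).s a = (X.s a.1, Y.s a.2) := rfl

/-- Isomorphism of spaces with isometries. -/
def Iso (X Y : Space.{v, w} F) : Prop :=
  ∃ e : X.V ≃ₗ[F] Y.V, (∀ a b, Y.B (e a) (e b) = X.B a b) ∧ ∀ a, e (X.g a) = Y.g (e a)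

theorem Iso.refl (X : Space.{v, w} F) : Iso X X := ⟨LinearEquiv.refl F _, fun _ _ => rfl, fun _ => rfl⟩

theorem Iso.symm {X Y : Space.{v, w} F} (h : Iso X Y) : Iso Y X := by
  obtain ⟨e, hB, hg⟩ := h
  refine ⟨e.symm, fun a b => by rw [← hB]; simp, fun a => ?_⟩
  apply e.injective
  rw [hg]
  simp

theorem Iso.trans {X Y Z : Space.{v, w} F} (h : Iso X Y) (h' : Iso Y Z) : Iso X Z := by
  obtain ⟨e, hB, hg⟩ := h
  obtain ⟨f, hB', hg'⟩ := h'
  exact ⟨e.trans f, fun a b => by simp [hB', hB], fun a => by simp [hg, hg']⟩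

theorem Iso.prod {X Y X' Y' : Space.{v, w} F} (h : Iso X X') (h' : Iso Y Y') :
    Iso (X.prod Y) (X'.prod Y') := by
  obtain ⟨e, hB, hg⟩ := h
  obtain ⟨f, hB', hg'⟩ := h'
  exact ⟨e.prodCongr f, fun a b => by simp [hB, hB'],
    fun a => by simp [hg, hg']⟩

theorem iso_prod_assoc (X Y Z : Space.{v, w} F) : Iso ((X.prod Y).prod Z) (X.prod (Y.prod Z)) :=
  ⟨LinearEquiv.prodAssoc F X.V Y.V Z.V, fun a b => (add_assoc _ _ _).symm, fun _ => rfl⟩

theorem iso_prod_comm (X Y : Space.{v, w} F) : Iso (X.prod Y) (Y.prod X) :=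
  ⟨LinearEquiv.prodComm F X.V Y.V, fun a b => add_comm _ _, fun _ => rfl⟩

theorem Comm.of_iso {X Y : Space.{v, w} F} (h : Comm X) (hi : Iso X Y) : Comm Y := by
  obtain ⟨x, y, hx, hy, hxy⟩ := h
  obtain ⟨e, hB, hg⟩ := hi
  refine ⟨(e.symm.trans x).trans e, (e.symm.trans y).trans e, fun u v => ?_, fun u v => ?_, fun v => ?_⟩
  · simp only [LinearEquiv.trans_apply, hB, hx _ _]
    rw [← hB]; simp
  · simp only [LinearEquiv.trans_apply, hB, hy _ _]
    rw [← hB]; simp
  · simp only [LinearEquiv.trans_apply, LinearEquiv.symm_apply_apply, ← hg, hxy]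

theorem Comm.prod {X Y : Space.{v, w} F} (h : Comm X) (h' : Comm Y) : Comm (X.prod Y) := by
  obtain ⟨x, y, hx, hy, hxy⟩ := h
  obtain ⟨x', y', hx', hy', hxy'⟩ := h'
  refine ⟨x.prodCongr x', y.prodCongr y', fun u v => ?_, fun u v => ?_, fun v => ?_⟩
  · show X.B (x u.1) (x v.1) + Y.B (x' u.2) (x' v.2) = _
    rw [hx, hx']; rfl
  · show X.B (y u.1) (y v.1) + Y.B (y' u.2) (y' v.2) = _
    rw [hy, hy']; rfl
  · show (X.g (y (x v.1)), Y.g (y' (x' v.2))) = (x (y v.1), x' (y' v.2))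
    rw [hxy, hxy']

theorem comm_of_eq_id (X : Space.{v, w} F) (h : ∀ x, X.g x = x) : Comm X :=
  ⟨LinearEquiv.refl F _, LinearEquiv.refl F _, fun _ _ => rfl, fun _ _ => rfl, fun v => h v⟩

theorem finrank_prod_space (X Y : Space.{v, w} F) :
    Module.finrank F (X.prod Y).V = Module.finrank F X.V + Module.finrank F Y.V :=
  Module.finrank_prod

theorem Good.prod {X Y : Space.{v, w} F} (h : Good X) (h' : Good Y) : Good (X.prod Y) := by
  obtain ⟨L, hi, hd, hs, hg⟩ := h
  obtain ⟨L', hi', hd', hs', hg'⟩ := h'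
  refine ⟨L.prod L', ?_, ?_, ?_, ?_⟩
  · rintro a ⟨ha, ha'⟩ b ⟨hb, hb'⟩
    rw [Space.prod_B, hi _ ha _ hb, hi' _ ha' _ hb', add_zero]
  · have e : Module.finrank F ↥(L.prod L') = Module.finrank F L + Module.finrank F L' := by
      let eq : ↥(L.prod L') ≃ₗ[F] L × L' :=
        { toFun := fun a => (⟨a.1.1, a.2.1⟩, ⟨a.1.2, a.2.2⟩)
          invFun := fun a => ⟨(a.1.1, a.2.1), a.1.2, a.2.2⟩
          left_inv := fun _ => rfl
          right_inv := fun _ => rfl
          map_add' := fun _ _ => rfl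
          map_smul' := fun _ _ => rfl }
      rw [eq.finrank_eq, Module.finrank_prod]
    rw [finrank_prod_space, hd, hd']
    show _ = 2 * Module.finrank F ↥(L.prod L')
    rw [e, mul_add]
  · rintro a ⟨ha, ha'⟩
    exact ⟨hs _ ha, hs' _ ha'⟩
  · rintro a ⟨ha, ha'⟩ ⟨hd1, hd2⟩
    exact Prod.ext (hg _ ha hd1) (hg' _ ha' hd2)

theorem iso_neg {X Y : Space.{v, w} F} (h : Iso X Y) : Iso X.neg Y.neg := by
  obtain ⟨e, hB, hg⟩ := h
  exact ⟨e, hB, fun a => by
    show e (-X.g a) = -Y.g (e a)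
    rw [map_neg, hg]⟩

theorem iso_neg_prod (X Y : Space.{v, w} F) : Iso (X.neg.prod Y.neg) (X.prod Y).neg :=
  ⟨LinearEquiv.refl F _, fun _ _ => rfl, fun _ => rfl⟩

theorem Good.of_iso {X Y : Space.{v, w} F} (h : Good X) (hi : Iso X Y) : Good Y := by
  obtain ⟨L, hL, hd, hs, hgl⟩ := h
  obtain ⟨e, hB, hg⟩ := hi
  refine ⟨L.map e.toLinearMap, ?_, ?_, ?_, ?_⟩
  · rintro _ ⟨a, ha, rfl⟩ _ ⟨b, hb, rfl⟩
    exact (hB a b).trans (hL a ha b hb)
  · rw [← e.finrank_eq, hd, LinearEquiv.finrank_map_eq e L]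
  · rintro _ ⟨a, ha, rfl⟩
    refine ⟨X.s a, hs a ha, ?_⟩
    show e (X.g a + X.g.symm a) = Y.g (e a) + Y.g.symm (e a)
    rw [map_add, hg]
    congr 1
    apply Y.g.injective
    rw [← hg]
    simp
  · rintro _ ⟨a, ha, rfl⟩ ⟨b, hb, hbe⟩
    show Y.g (e a) = e a
    have : b = X.g a - a := e.injective (by rw [map_sub, hg]; exact hbe)
    rw [← hg, hgl a ha (this ▸ hb)]

section Restrict

variable (X : Space.{v, w} F)

/-- The orthogonal complement of a subspace. -/
def perp (W : Submodule F X.V) : Submodule F X.V where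
  carrier := {x | ∀ w ∈ W, X.B w x = 0}
  add_mem' ha hb w hw := by simp [ha w hw, hb w hw]
  zero_mem' w _ := by simp
  smul_mem' c x hx w hw := by simp [hx w hw]

theorem perp_invariant {W : Submodule F X.V} (hW : ∀ x ∈ W, X.g x ∈ W) :
    ∀ x ∈ perp X W, X.g x ∈ perp X W := by
  intro x hx w hw
  have hs : ∀ a : W, ∃ b : W, X.g b = a := by
    intro a
    let T : W →ₗ[F] W := X.g.toLinearMap.restrict hW
    have hT : Function.Injective T := fun a b h => Subtype.ext (X.g.injective (congrArg Subtype.val h))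
    obtain ⟨b, hb⟩ := (LinearMap.injective_iff_surjective.mp hT) a
    exact ⟨b, congrArg Subtype.val hb⟩
  obtain ⟨b, hb⟩ := hs ⟨w, hw⟩
  rw [← show X.g b = w from hb, X.isom]
  exact hx b b.2

/-- The restriction to a non-degenerate invariant subspace. -/
noncomputable abbrev Space.res (W : Submodule F X.V) (hW : ∀ x ∈ W, X.g x ∈ W)
    (hn : ∀ x ∈ W, (∀ y ∈ W, X.B x y = 0) → x = 0) : Space.{v, w} F where
  V := W
  B := X.B.compl₁₂ W.subtype W.subtype
  alt x := X.alt _
  nd x h := Subtype.ext (hn _ x.2 fun y hy => h ⟨y, hy⟩)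
  g := LinearEquiv.ofBijective (X.g.toLinearMap.restrict hW) (by
    have hT : Function.Injective (X.g.toLinearMap.restrict hW) :=
      fun a b h => Subtype.ext (X.g.injective (congrArg Subtype.val h))
    exact ⟨hT, LinearMap.injective_iff_surjective.mp hT⟩)
  isom x y := X.isom _ _

theorem Space.res_g (W : Submodule F X.V) (hW : ∀ x ∈ W, X.g x ∈ W)
    (hn : ∀ x ∈ W, (∀ y ∈ W, X.B x y = 0) → x = 0) (x : W) :
    ((X.res W hW hn).g x : X.V) = X.g x := rfl

theorem exists_iso_prod (W : Submodule F X.V) (hW : ∀ x ∈ W, X.g x ∈ W)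
    (hn : ∀ x ∈ W, (∀ y ∈ W, X.B x y = 0) → x = 0) :
    ∃ Y : Space.{v, w} F, Iso X ((X.res W hW hn).prod Y) ∧
      Module.finrank F W + Module.finrank F Y.V = Module.finrank F X.V := by
  set P := perp X W
  -- the functional map
  let φ : X.V →ₗ[F] Module.Dual F W := (X.B.compl₁₂ W.subtype LinearMap.id).flip
  have hdisj : Disjoint W P := Submodule.disjoint_def.mpr fun x hx hp =>
    hn x hx fun y hy => by rw [X.swap, hp y hy, neg_zero]
  have hφsurj : LinearMap.range (φ ∘ₗ W.subtype) = ⊤ := by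
    refine LinearMap.range_eq_top.mpr ?_
    refine (LinearMap.injective_iff_surjective_of_finrank_eq_finrank
      (Subspace.dual_finrank_eq (K := F) (V := W)).symm).mp ?_
    refine (injective_iff_map_eq_zero _).mpr fun a ha => Subtype.ext (hn a a.2 fun y hy => ?_)
    rw [X.swap]
    exact neg_eq_zero.mpr (LinearMap.congr_fun ha ⟨y, hy⟩)
  have hsup : W ⊔ P = ⊤ := by
    refine eq_top_iff.mpr fun x _ => ?_
    obtain ⟨a, ha⟩ := LinearMap.range_eq_top.mp hφsurj (φ x)
    refine Submodule.mem_sup.mpr ⟨a, a.2, x - a, fun w hw => ?_, add_sub_cancel _ _⟩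
    rw [map_sub, sub_eq_zero]
    exact (LinearMap.congr_fun ha ⟨w, hw⟩).symm
  have hc : IsCompl W P := ⟨hdisj, codisjoint_iff.mpr hsup⟩
  have hP : ∀ x ∈ P, (∀ y ∈ P, X.B x y = 0) → x = 0 := by
    intro x hx h
    refine X.nd x fun y => ?_
    obtain ⟨a, ha, b, hb, rfl⟩ := Submodule.mem_sup.mp (hsup ▸ (Submodule.mem_top : y ∈ ⊤))
    rw [map_add, h b hb, X.swap, hx a ha, neg_zero, add_zero]
  refine ⟨X.res P (perp_invariant X hW) hP, Iso.symm ⟨W.prodEquivOfIsCompl P hc, ?_, ?_⟩, ?_⟩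
  · rintro ⟨a, b⟩ ⟨a', b'⟩
    have h1 : X.B (a : X.V) b' = 0 := b'.2 a a.2
    have h2 : X.B (b : X.V) a' = 0 := by rw [X.swap, b.2 a' a'.2, neg_zero]
    show X.B ((a : X.V) + b) ((a' : X.V) + b') = X.B (a : X.V) a' + X.B (b : X.V) b'
    simp [h1, h2]
  · rintro ⟨a, b⟩
    show (X.g (a : X.V)) + X.g b = X.g ((a : X.V) + b)
    rw [map_add]
  · exact Submodule.finrank_add_eq_of_isCompl hc

end Restrict

end CfsgLib.OreSp
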