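import Cfsg.Agent.OreSp.Space
import Mathlib.LinearAlgebra.FiniteDimensional.Lemmas
import Mathlib.RingTheory.Coprime.Basic
import Mathlib.Algebra.Polynomial.AlgebraMap

/-!
# The Lagrangian Schur trick

If `g = ±(Low ∘ Up)` for a pair of complementary Lagrangians and a witness whose spectrum does not
meet the inverse spectrum exists, then `g` is a commutator.
-/

set_option autoImplicit false

namespace CfsgLib.OreSp

open LinearMap Submodule Polynomial

universe v w

variable {F : Type v} [Field F] (X : Space.{v, w} F)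

theorem IsIsom.symm {x : X.V ≃ₗ[F] X.V} (h : IsIsom X x) : IsIsom X x.symm := fun u v => by
  rw [← h]; simp

theorem IsIsom.trans {x y : X.V ≃ₗ[F] X.V} (hx : IsIsom X x) (hy : IsIsom X y) :
    IsIsom X (x.trans y) := fun u v => (hy _ _).trans (hx u v)

theorem pow_adj {h : X.V ≃ₗ[F] X.V} (hh : IsIsom X h) (k : ℕ) (x y : X.V) :
    X.B ((h.toLinearMap ^ k) x) y = X.B x ((h.symm.toLinearMap ^ k) y) := by
  induction k generalizing y with
  | zero => rfl
  | succ k ih =>
    rw [pow_succ', pow_succ, Module.End.mul_apply, Module.End.mul_apply,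
      ← ih (h.symm.toLinearMap y)]
    show X.B (h _) y = X.B _ (h.symm y)
    rw [← hh _ (h.symm y), LinearEquiv.apply_symm_apply]

theorem poly_adj {h : X.V ≃ₗ[F] X.V} (hh : IsIsom X h) (q : F[X]) (x y : X.V) :
    X.B (aeval h.toLinearMap q x) y = X.B x (aeval h.symm.toLinearMap q y) := by
  induction q using Polynomial.induction_on' with
  | add p q hp hq => simp only [map_add, LinearMap.add_apply, hp, hq]
  | monomial k a =>
    simp only [aeval_monomial, ← Algebra.smul_def, LinearMap.smul_apply, map_smul, pow_adj X hh]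

/-- Polynomials in an endomorphism preserve invariant subspaces. -/
theorem poly_mem {U : Submodule F X.V} {T : Module.End F X.V} (hT : ∀ x ∈ U, T x ∈ U) (q : F[X])
    {x : X.V} (hx : x ∈ U) : aeval T q x ∈ U := by
  induction q using Polynomial.induction_on' with
  | add p q hp hq => rw [map_add]; exact U.add_mem hp hq
  | monomial k a =>
    rw [aeval_monomial, ← Algebra.smul_def]
    refine U.smul_mem a ?_
    induction k with
    | zero => exact hx
    | succ k ih => rw [pow_succ', Module.End.mul_apply]; exact hT _ ih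

/-- Congruent endomorphisms have congruent polynomial values. -/
theorem poly_sub_mem {U : Submodule F X.V} {Z D : Module.End F X.V} (hZ : ∀ x ∈ U, Z x ∈ U)
    (hc : ∀ x, Z x - D x ∈ U) (q : F[X]) (x : X.V) : aeval Z q x - aeval D q x ∈ U := by
  induction q using Polynomial.induction_on' with
  | add p q hp hq =>
    simp only [map_add, LinearMap.add_apply]
    have := U.add_mem hp hq
    rwa [add_sub_add_comm]
  | monomial k a =>
    simp only [aeval_monomial, ← Algebra.smul_def, LinearMap.smul_apply, ← smul_sub]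
    refine U.smul_mem a ?_
    induction k with
    | zero => simp
    | succ k ih =>
      rw [pow_succ', pow_succ', Module.End.mul_apply, Module.End.mul_apply]
      have h1 := U.add_mem (hZ _ ih) (hc ((D ^ k) x))
      rwa [map_sub, sub_add_sub_cancel] at h1

/-- A pair of complementary Lagrangians. -/
structure Pair where
  /-- The first one. -/
  L : Submodule F X.V
  /-- The second one. -/
  M : Submodule F X.V
  isoL : ∀ a ∈ L, ∀ b ∈ L, X.B a b = 0
  isoM : ∀ a ∈ M, ∀ b ∈ M, X.B a b = 0
  compl : IsCompl L M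

variable {X}

/-- The reversed pair. -/
def Pair.swap (P : Pair X) : Pair X where
  L := P.M
  M := P.L
  isoL := P.isoM
  isoM := P.isoL
  compl := P.compl.symm

theorem Pair.decomp (P : Pair X) (x : X.V) : ∃ l ∈ P.L, ∃ μ ∈ P.M, x = l + μ := by
  obtain ⟨l, hl, μ, hμ, rfl⟩ := Submodule.mem_sup.mp
    (P.compl.sup_eq_top ▸ (Submodule.mem_top : x ∈ ⊤))
  exact ⟨l, hl, μ, hμ, rfl⟩

/-- An element of `M` orthogonal to `L` vanishes. -/
theorem Pair.eq_zero_of_perp (P : Pair X) {μ : X.V} (hμ : μ ∈ P.M) (h : ∀ l ∈ P.L, X.B μ l = 0) :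
    μ = 0 := by
  refine X.nd μ fun y => ?_
  obtain ⟨l, hl, ν, hν, rfl⟩ := P.decomp y
  rw [map_add, h l hl, P.isoM μ hμ ν hν, add_zero]

/-- An isometry preserving both Lagrangians is determined by its restriction to one of them. -/
theorem Pair.ext (P : Pair X) {x y : X.V ≃ₗ[F] X.V} (hx : IsIsom X x) (hy : IsIsom X y)
    (hxM : ∀ μ ∈ P.M, x μ ∈ P.M) (hyM : ∀ μ ∈ P.M, y μ ∈ P.M) (hxL : ∀ l ∈ P.L, x l ∈ P.L)
    (h : ∀ l ∈ P.L, x l = y l) (v : X.V) : x v = y v := by
  obtain ⟨l, hl, μ, hμ, rfl⟩ := P.decomp v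
  rw [map_add, map_add, h l hl]
  congr 1
  refine sub_eq_zero.mp (P.eq_zero_of_perp (P.M.sub_mem (hxM μ hμ) (hyM μ hμ)) fun a ha => ?_)
  -- every element of `L` is an image
  obtain ⟨b, hb, rfl⟩ : ∃ b ∈ P.L, x b = a := by
    let T : P.L →ₗ[F] P.L := x.toLinearMap.restrict hxL
    have hT : Function.Injective T := fun a b h => Subtype.ext (x.injective (congrArg Subtype.val h))
    obtain ⟨b, hb⟩ := LinearMap.injective_iff_surjective.mp hT ⟨a, ha⟩
    exact ⟨b, b.2, congrArg Subtype.val hb⟩
  rw [map_sub, LinearMap.sub_apply, hx]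
  conv_lhs => arg 2; rw [h b hb]
  rw [hy, sub_self]

/-- The map `M → Dual L` of the pairing. -/
def Pair.pairing (P : Pair X) : P.M →ₗ[F] Module.Dual F P.L :=
  X.B.compl₁₂ P.M.subtype P.L.subtype

theorem Pair.pairing_bijective (P : Pair X) : Function.Bijective P.pairing := by
  have hinj : Function.Injective P.pairing := (injective_iff_map_eq_zero _).mpr fun a ha =>
    Subtype.ext (P.eq_zero_of_perp a.2 fun l hl => LinearMap.congr_fun ha ⟨l, hl⟩)
  have hinj' : Function.Injective P.swap.pairing := (injective_iff_map_eq_zero _).mpr fun a ha =>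
    Subtype.ext (P.swap.eq_zero_of_perp a.2 fun l hl => LinearMap.congr_fun ha ⟨l, hl⟩)
  have h1 := LinearMap.finrank_le_finrank_of_injective hinj
  have h2 := LinearMap.finrank_le_finrank_of_injective hinj'
  rw [Subspace.dual_finrank_eq] at h1
  have h2' : Module.finrank F P.L ≤ Module.finrank F P.M := by
    rw [Subspace.dual_finrank_eq] at h2
    exact h2
  exact ⟨hinj, (LinearMap.injective_iff_surjective_of_finrank_eq_finrank
    (by rw [Subspace.dual_finrank_eq]; omega)).mp hinj⟩

/-- Every automorphism of `L` extends to an isometry preserving both Lagrangians. -/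
theorem Pair.exists_ext (P : Pair X) (T : P.L ≃ₗ[F] P.L) :
    ∃ D : X.V ≃ₗ[F] X.V, IsIsom X D ∧ (∀ l : P.L, D l = T l) ∧ (∀ μ ∈ P.M, D μ ∈ P.M) := by
  let π := LinearEquiv.ofBijective P.pairing P.pairing_bijective
  let S : P.M ≃ₗ[F] P.M := (π.trans T.symm.dualMap).trans π.symm
  have hS : ∀ (μ : P.M) (l : P.L), X.B (S μ : X.V) (T l : X.V) = X.B (μ : X.V) l := fun μ l => by
    have h : P.pairing (S μ) = T.symm.dualMap (π μ) := π.apply_symm_apply _
    have h' := LinearMap.congr_fun h (T l)
    rw [LinearEquiv.dualMap_apply, LinearEquiv.symm_apply_apply] at h'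
    exact h'
  let e := P.L.prodEquivOfIsCompl P.M P.compl
  let D : X.V ≃ₗ[F] X.V := (e.symm.trans (T.prodCongr S)).trans e
  have hD : ∀ (l : P.L) (μ : P.M), D ((l : X.V) + μ) = (T l : X.V) + S μ := fun l μ => by
    show e ((T.prodCongr S) (e.symm ((l : X.V) + μ))) = _
    rw [show ((l : X.V) + μ) = e (l, μ) from rfl, LinearEquiv.symm_apply_apply]
    rfl
  refine ⟨D, fun u v => ?_, fun l => ?_, fun μ hμ => ?_⟩
  · obtain ⟨a, ha, b, hb, rfl⟩ := P.decomp u
    obtain ⟨a', ha', b', hb', rfl⟩ := P.decomp v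
    rw [hD ⟨a, ha⟩ ⟨b, hb⟩, hD ⟨a', ha'⟩ ⟨b', hb'⟩]
    simp only [map_add, LinearMap.add_apply, P.isoL _ (T ⟨a, ha⟩).2 _ (T ⟨a', ha'⟩).2,
      P.isoM _ (S ⟨b, hb⟩).2 _ (S ⟨b', hb'⟩).2, P.isoL a ha a' ha', P.isoM b hb b' hb']
    rw [hS, X.swap (S ⟨b', hb'⟩ : X.V), hS, ← X.swap b']
  · have h := hD l 0
    rw [ZeroMemClass.coe_zero, add_zero, map_zero, ZeroMemClass.coe_zero, add_zero] at h
    exact h
  · have h := hD 0 ⟨μ, hμ⟩
    rw [ZeroMemClass.coe_zero, zero_add, map_zero, ZeroMemClass.coe_zero, zero_add] at h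
    rw [h]
    exact (S _).2

/-- An isometry congruent to a split one with disjoint spectra is split. -/
theorem Pair.exists_split (P : Pair X) {Z D : X.V ≃ₗ[F] X.V} (hZ : IsIsom X Z)
    (hDM : ∀ μ ∈ P.M, D μ ∈ P.M) (hDL : ∀ l ∈ P.L, D l ∈ P.L)
    (hA : ∀ l ∈ P.L, Z l = D l) (hc : ∀ x, Z x - D x ∈ P.L) (q : F[X])
    (h0 : ∀ μ ∈ P.M, aeval D.toLinearMap q μ = 0)
    (hiL : ∀ l ∈ P.L, aeval D.toLinearMap q l = 0 → l = 0)
    (hiM : ∀ μ ∈ P.M, aeval D.symm.toLinearMap q μ = 0 → μ = 0) :
    ∃ Q : X.V ≃ₗ[F] X.V, IsIsom X Q ∧ ∀ v, Q (D v) = Z (Q v) := by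
  set K := LinearMap.ker (aeval Z.toLinearMap q)
  have hZL : ∀ x ∈ P.L, Z x ∈ P.L := fun x hx => by rw [hA x hx]; exact hDL x hx
  have hDLsymm : ∀ x ∈ P.L, D.symm x ∈ P.L := fun x hx => by
    let T : P.L →ₗ[F] P.L := D.toLinearMap.restrict hDL
    have hT : Function.Injective T := fun a b h => Subtype.ext (D.injective (congrArg Subtype.val h))
    obtain ⟨b, hb⟩ := LinearMap.injective_iff_surjective.mp hT ⟨x, hx⟩
    rw [← show D b = x from congrArg Subtype.val hb, LinearEquiv.symm_apply_apply]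
    exact b.2
  have hZLsymm : ∀ x ∈ P.L, Z.symm x ∈ P.L := fun x hx => by
    have h := hA _ (hDLsymm x hx)
    rw [LinearEquiv.apply_symm_apply] at h
    have h2 := congrArg Z.symm h
    rw [LinearEquiv.symm_apply_apply] at h2
    rw [← h2]
    exact hDLsymm x hx
  -- values on `L`
  have hval : ∀ x ∈ P.L, aeval Z.toLinearMap q x = aeval D.toLinearMap q x := by
    intro x hx
    clear h0 hiL hiM
    induction q using Polynomial.induction_on' with
    | add p q hp hq => rw [map_add, map_add, LinearMap.add_apply, LinearMap.add_apply, hp, hq]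
    | monomial k a =>
      simp only [aeval_monomial, ← Algebra.smul_def, LinearMap.smul_apply]
      congr 1
      have : ∀ j, (Z.toLinearMap ^ j) x = (D.toLinearMap ^ j) x ∧ (D.toLinearMap ^ j) x ∈ P.L := by
        intro j
        induction j with
        | zero => exact ⟨rfl, hx⟩
        | succ j ih =>
          rw [pow_succ', pow_succ', Module.End.mul_apply, Module.End.mul_apply, ih.1]
          exact ⟨hA _ ih.2, hDL _ ih.2⟩
      exact (this k).1
  have hdisj : Disjoint P.L K := Submodule.disjoint_def.mpr fun x hx hk =>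
    hiL x hx ((hval x hx).symm.trans hk)
  have hrange : LinearMap.range (aeval Z.toLinearMap q) ≤ P.L := by
    rintro _ ⟨x, rfl⟩
    obtain ⟨l, hl, μ, hμ, rfl⟩ := P.decomp x
    rw [map_add]
    refine P.L.add_mem (poly_mem X hZL q hl) ?_
    have h := poly_sub_mem X (Z := Z.toLinearMap) (D := D.toLinearMap) hZL hc q μ
    rwa [h0 μ hμ, sub_zero] at h
  have hcompl : IsCompl P.L K := by
    refine ⟨hdisj, codisjoint_iff.mpr (Submodule.eq_top_of_finrank_eq ?_)⟩
    have h1 := Submodule.finrank_sup_add_finrank_inf_eq P.L K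
    rw [hdisj.eq_bot, finrank_bot, add_zero] at h1
    have h2 := (aeval Z.toLinearMap q).finrank_range_add_finrank_ker
    have h3 : Module.finrank F (LinearMap.range (aeval Z.toLinearMap q)) ≤ Module.finrank F P.L :=
      Submodule.finrank_mono hrange
    have h4 : Module.finrank F ↥(P.L ⊔ K) ≤ Module.finrank F X.V := Submodule.finrank_le _
    change _ + Module.finrank F K = _ at h2
    omega
  -- `K` is isotropic
  have hKiso : ∀ a ∈ K, ∀ b ∈ K, X.B a b = 0 := by
    intro a ha b hb
    have hKinv : ∀ x ∈ K, Z.symm x ∈ K := fun x hx => by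
      rw [LinearMap.mem_ker] at hx ⊢
      have hcomm' : ∀ r : F[X], Commute Z.symm.toLinearMap (aeval Z.toLinearMap r) := by
        intro r
        induction r using Polynomial.induction_on' with
        | add p q hp hq => rw [map_add]; exact hp.add_right hq
        | monomial k a =>
          rw [aeval_monomial, ← Algebra.smul_def]
          refine (Commute.pow_right ?_ k).smul_right a
          show Z.symm.toLinearMap * Z.toLinearMap = Z.toLinearMap * Z.symm.toLinearMap
          ext v
          simp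
      have hcomm := (hcomm' q).symm
      have := LinearMap.congr_fun hcomm.eq x
      rw [Module.End.mul_apply, Module.End.mul_apply, hx, map_zero] at this
      exact this
    let W : K →ₗ[F] K := (aeval Z.symm.toLinearMap q).restrict
      (fun x hx => poly_mem X (U := K) hKinv q hx)
    have hW : Function.Injective W := by
      refine (injective_iff_map_eq_zero W).mpr fun z hz => ?_
      obtain ⟨l, hl, μ, hμ, hzd⟩ := P.decomp (z : X.V)
      have h1 : aeval Z.symm.toLinearMap q (z : X.V) = 0 := congrArg Subtype.val hz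
      have hcs : ∀ x, Z.symm x - D.symm x ∈ P.L := fun x => by
        have h := hc (D.symm x)
        rw [LinearEquiv.apply_symm_apply] at h
        have h2 := hZLsymm _ h
        rw [map_sub, LinearEquiv.symm_apply_apply] at h2
        simpa using P.L.neg_mem h2
      have h2 := poly_sub_mem X (Z := Z.symm.toLinearMap) (D := D.symm.toLinearMap) hZLsymm hcs q
        (z : X.V)
      rw [h1, zero_sub] at h2
      rw [hzd, map_add] at h2
      have h3 : aeval D.symm.toLinearMap q μ ∈ P.L := by
        have := P.L.sub_mem (P.L.neg_mem h2) (poly_mem X (T := D.symm.toLinearMap) hDLsymm q hl)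
        simpa using this
      have hDMsymm : ∀ x ∈ P.M, D.symm x ∈ P.M := fun x hx => by
        let T : P.M →ₗ[F] P.M := D.toLinearMap.restrict hDM
        have hT : Function.Injective T :=
          fun a b h => Subtype.ext (D.injective (congrArg Subtype.val h))
        obtain ⟨b, hb⟩ := LinearMap.injective_iff_surjective.mp hT ⟨x, hx⟩
        rw [← show D b = x from congrArg Subtype.val hb, LinearEquiv.symm_apply_apply]
        exact b.2
      have h4 := Submodule.disjoint_def.mp P.compl.disjoint _ h3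
        (poly_mem X (T := D.symm.toLinearMap) hDMsymm q hμ)
      rw [hiM μ hμ h4, add_zero] at hzd
      exact Subtype.ext (Submodule.disjoint_def.mp hdisj _ (hzd ▸ hl) z.2)
    obtain ⟨c, hc'⟩ := LinearMap.injective_iff_surjective.mp hW ⟨b, hb⟩
    have hb' : aeval Z.symm.toLinearMap q (c : X.V) = b := congrArg Subtype.val hc'
    rw [← hb', ← poly_adj X hZ, LinearMap.mem_ker.mp ha, map_zero, LinearMap.zero_apply]
  -- the change of complement
  let e₁ := P.L.prodEquivOfIsCompl P.M P.compl
  let e₂ := P.L.prodEquivOfIsCompl K hcompl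
  let π : P.M ≃ₗ[F] K := (P.L.quotientEquivOfIsCompl P.M P.compl).symm.trans
    (P.L.quotientEquivOfIsCompl K hcompl)
  have hπ : ∀ μ : P.M, (π μ : X.V) - μ ∈ P.L := fun μ => by
    have : Submodule.Quotient.mk (p := P.L) (π μ : X.V) = Submodule.Quotient.mk (μ : X.V) := by
      rw [← Submodule.quotientEquivOfIsCompl_symm_apply P.L K hcompl,
        ← Submodule.quotientEquivOfIsCompl_symm_apply P.L P.M P.compl]
      exact (P.L.quotientEquivOfIsCompl K hcompl).symm_apply_apply _
    exact (Submodule.Quotient.eq _).mp this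
  let Q : X.V ≃ₗ[F] X.V := (e₁.symm.trans ((LinearEquiv.refl F P.L).prodCongr π)).trans e₂
  have hQ : ∀ (l : P.L) (μ : P.M), Q ((l : X.V) + μ) = (l : X.V) + π μ := fun l μ => by
    show e₂ (((LinearEquiv.refl F P.L).prodCongr π) (e₁.symm ((l : X.V) + μ))) = _
    rw [show ((l : X.V) + μ) = e₁ (l, μ) from rfl, LinearEquiv.symm_apply_apply]
    rfl
  refine ⟨Q, fun u v => ?_, fun v => ?_⟩
  · obtain ⟨a, ha, b, hb, rfl⟩ := P.decomp u
    obtain ⟨a', ha', b', hb', rfl⟩ := P.decomp v
    rw [hQ ⟨a, ha⟩ ⟨b, hb⟩, hQ ⟨a', ha'⟩ ⟨b', hb'⟩]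
    have h1 : X.B a (π ⟨b', hb'⟩ : X.V) = X.B a b' := by
      rw [← sub_eq_zero, ← map_sub]; exact P.isoL a ha _ (hπ ⟨b', hb'⟩)
    have h2 : X.B (π ⟨b, hb⟩ : X.V) a' = X.B b a' := by
      rw [X.swap a', X.swap a', neg_inj, ← sub_eq_zero, ← map_sub]
      exact P.isoL a' ha' _ (hπ ⟨b, hb⟩)
    simp only [map_add, LinearMap.add_apply, h1, h2, P.isoL a ha a' ha', P.isoM b hb b' hb',
      hKiso _ (π ⟨b, hb⟩).2 _ (π ⟨b', hb'⟩).2]
  · obtain ⟨a, ha, b, hb, rfl⟩ := P.decomp v
    rw [map_add, hQ ⟨D a, hDL a ha⟩ ⟨D b, hDM b hb⟩, hQ ⟨a, ha⟩ ⟨b, hb⟩, map_add, hA a ha]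
    congr 1
    have hKZ : Z (π ⟨b, hb⟩ : X.V) ∈ K := by
      rw [LinearMap.mem_ker]
      have h := (Commute.refl Z.toLinearMap)
      have hcomm : aeval Z.toLinearMap q * Z.toLinearMap = Z.toLinearMap * aeval Z.toLinearMap q := by
        conv_lhs => arg 2; rw [← aeval_X (R := F) Z.toLinearMap]
        conv_rhs => arg 1; rw [← aeval_X (R := F) Z.toLinearMap]
        rw [← map_mul, ← map_mul, mul_comm]
      have := LinearMap.congr_fun hcomm (π ⟨b, hb⟩ : X.V)
      rw [Module.End.mul_apply, Module.End.mul_apply, LinearMap.mem_ker.mp (π ⟨b, hb⟩).2,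
        map_zero] at this
      exact this
    refine sub_eq_zero.mp (Submodule.disjoint_def.mp hdisj _ ?_ (K.sub_mem (π _).2 hKZ))
    have h5 := P.L.sub_mem (hπ ⟨D b, hDM b hb⟩)
      (P.L.add_mem (hZL _ (hπ ⟨b, hb⟩)) (hc b))
    have he : ∀ p z zb db : X.V, p - db - (z - zb + (zb - db)) = p - z := fun p z zb db => by abel
    rw [map_sub, he] at h5
    exact h5

end CfsgLib.OreSp
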