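import Cfsg.Agent.OreSp.Cyclic
import Cfsg.Agent.OreSp.FromLagrangian
import Cfsg.Agent.OreSp.Poly
import Mathlib.RingTheory.Nilpotent.Basic

/-!
# Indecomposable unipotent isometries with degenerate top form

Such a space has two Jordan blocks of the same size, and it contains a Lagrangian that is invariant
under `g + g⁻¹` and meets its image under `g - 1` trivially.
-/

set_option autoImplicit false

namespace CfsgLib.OreSp

open LinearMap Submodule Polynomial

universe v w

variable {F : Type v} [Field F] (X : Space.{v, w} F)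

/-- `g - 1`. -/
def Space.N : Module.End F X.V := X.g.toLinearMap - 1

theorem Space.N_apply (x : X.V) : X.N x = X.g x - x := rfl

/-- `g⁻¹` as an endomorphism. -/
def Space.gi : Module.End F X.V := X.g.symm.toLinearMap

theorem Space.gi_mul : X.gi * (1 + X.N) = 1 := by
  refine LinearMap.ext fun x => ?_
  show X.g.symm (x + (X.g x - x)) = x
  rw [add_sub_cancel, LinearEquiv.symm_apply_apply]

theorem Space.gi_comm : Commute X.gi X.N := by
  refine LinearMap.ext fun x => ?_
  show X.g.symm (X.g x - x) = X.g (X.g.symm x) - X.g.symm x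
  rw [map_sub, LinearEquiv.symm_apply_apply, LinearEquiv.apply_symm_apply]

theorem Space.s_sub_two : X.s - (2 : F) • 1 = X.gi * X.N ^ 2 := by
  refine LinearMap.ext fun x => ?_
  show X.g x + X.g.symm x - (2 : F) • x = X.g.symm (X.N (X.N x))
  simp only [Space.N_apply, map_sub, LinearEquiv.symm_apply_apply]
  module

/-- The adjoint of `(g - 1) ^ i`. -/
theorem Space.N_pow_adj (i : ℕ) (x y : X.V) :
    X.B ((X.N ^ i) x) y = (-1) ^ i * X.B x ((X.gi ^ i * X.N ^ i) y) := by
  induction i generalizing y with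
  | zero => simp
  | succ i ih =>
    have h1 : X.B (X.N ((X.N ^ i) x)) y = -X.B ((X.N ^ i) x) (X.gi (X.N y)) := by
      rw [X.N_apply, X.N_apply, map_sub, LinearMap.sub_apply, X.adj, ← map_sub, ← map_neg]
      congr 1
      show X.g.symm y - y = -X.g.symm (X.g y - y)
      rw [map_sub, LinearEquiv.symm_apply_apply, neg_sub]
    rw [pow_succ' X.N, Module.End.mul_apply, h1, ih, pow_succ, pow_succ X.gi,
      mul_assoc (X.gi ^ i), ← pow_succ' X.N, pow_succ X.N, ← mul_assoc X.gi,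
      (X.gi_comm.pow_right i).eq, mul_assoc (X.N ^ i), ← mul_assoc (X.gi ^ i)]
    simp only [Module.End.mul_apply]
    ring

/-- Powers of `g⁻¹` fix the deepest image. -/
theorem Space.gi_pow_fix {n k : ℕ} (hn : X.N ^ n = 0) (hk : n ≤ k + 1) (j : ℕ) :
    X.gi ^ j * X.N ^ k = X.N ^ k := by
  induction j with
  | zero => rw [pow_zero, one_mul]
  | succ j ih =>
    have h : (1 + X.N) * X.N ^ k = X.N ^ k := by
      rw [add_mul, one_mul, ← pow_succ', pow_eq_zero_of_le hk hn, add_zero]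
    have h2 : X.gi * X.N ^ k = X.N ^ k := by
      conv_lhs => rw [← h, ← mul_assoc, X.gi_mul, one_mul]
    rw [pow_succ, mul_assoc, h2, ih]

/-- The data of a degenerate unipotent block pair. -/
structure Blocks (n : ℕ) (v w : X.V) : Prop where
  pos : 0 < n
  nil : X.N ^ n = 0
  top : X.B v ((X.N ^ (n - 1)) w) ≠ 0
  deg : ∀ x, X.B x ((X.N ^ (n - 1)) x) = 0

namespace Blocks

variable {X} {n : ℕ} {v₀ w₀ : X.V} (hb : Blocks X n v₀ w₀)
include hb

/-- Pairing of complementary depths. -/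
theorem pair_eq (i k : ℕ) (h : i + k + 1 = n) (p : F[X]) (x y : X.V) :
    X.B (aeval X.N (Polynomial.X ^ i * p) x) ((X.N ^ k) y) =
      (-1) ^ i * p.coeff 0 * X.B x ((X.N ^ (n - 1)) y) := by
  have hz : ∀ x, X.B (X.N x) ((X.N ^ (n - 1)) y) = 0 := fun x => by
    have := X.N_pow_adj 1 x ((X.N ^ (n - 1)) y)
    rw [pow_one, pow_one, pow_one, Module.End.mul_apply, ← Module.End.mul_apply X.N, ← pow_succ',
      Nat.sub_add_cancel hb.pos, hb.nil, LinearMap.zero_apply, map_zero, map_zero, mul_zero] at this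
    exact this
  rw [map_mul, map_pow, aeval_X, Module.End.mul_apply, X.N_pow_adj, ← Module.End.mul_apply, mul_assoc,
    ← pow_add, X.gi_pow_fix hb.nil (by omega), show i + k = n - 1 by omega]
  conv_lhs => rw [← Polynomial.X_mul_divX_add p, map_add, LinearMap.add_apply, map_mul, aeval_X,
    Module.End.mul_apply, map_add, LinearMap.add_apply, hz, zero_add, aeval_C,
    Module.algebraMap_end_apply, map_smul, LinearMap.smul_apply, smul_eq_mul]
  ring

/-- A combination orthogonal to the whole block pair vanishes to depth `n`. -/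
theorem dvd_of_perp (p q : F[X])
    (hv : ∀ k, X.B (aeval X.N p v₀ + aeval X.N q w₀) ((X.N ^ k) v₀) = 0)
    (hw : ∀ k, X.B (aeval X.N p v₀ + aeval X.N q w₀) ((X.N ^ k) w₀) = 0) :
    Polynomial.X ^ n ∣ p ∧ Polynomial.X ^ n ∣ q := by
  suffices ∀ i ≤ n, Polynomial.X ^ i ∣ p ∧ Polynomial.X ^ i ∣ q from this n le_rfl
  intro i
  induction i with
  | zero => simp
  | succ i ih =>
    intro hi
    obtain ⟨⟨p', rfl⟩, ⟨q', rfl⟩⟩ := ih (by omega)
    have h1 := hw (n - 1 - i)
    have h2 := hv (n - 1 - i)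
    rw [map_add, LinearMap.add_apply, hb.pair_eq i _ (by omega), hb.pair_eq i _ (by omega), hb.deg,
      mul_zero, add_zero] at h1
    have hne : X.B w₀ ((X.N ^ (n - 1)) v₀) ≠ 0 := by
      intro h0
      apply hb.top
      have h := hb.deg (v₀ + w₀)
      simp only [map_add, LinearMap.add_apply, hb.deg, h0, zero_add, add_zero] at h
      exact h
    rw [map_add, LinearMap.add_apply, hb.pair_eq i _ (by omega), hb.pair_eq i _ (by omega), hb.deg,
      mul_zero, zero_add] at h2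
    have e1 : p'.coeff 0 = 0 := by
      simpa [hb.top] using h1
    have e2 : q'.coeff 0 = 0 := by
      simpa [hne] using h2
    rw [pow_succ]
    exact ⟨mul_dvd_mul_left _ (X_dvd_iff.mpr e1), mul_dvd_mul_left _ (X_dvd_iff.mpr e2)⟩

theorem aeval_eq_zero {p : F[X]} (h : Polynomial.X ^ n ∣ p) : aeval X.N p = 0 := by
  obtain ⟨c, rfl⟩ := h
  rw [map_mul, map_pow, aeval_X, hb.nil, zero_mul]

/-- In an indecomposable space the block pair is everything. -/
theorem exists_eq (hX : Indec X) (x : X.V) : ∃ p q : F[X], x = aeval X.N p v₀ + aeval X.N q w₀ := by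
  let Φ : F[X] × F[X] →ₗ[F] X.V :=
    ((LinearMap.applyₗ v₀) ∘ₗ (aeval X.N : F[X] →ₐ[F] Module.End F X.V).toLinearMap).coprod
      ((LinearMap.applyₗ w₀) ∘ₗ (aeval X.N : F[X] →ₐ[F] Module.End F X.V).toLinearMap)
  have hΦ : ∀ pq, Φ pq = aeval X.N pq.1 v₀ + aeval X.N pq.2 w₀ := fun _ => rfl
  have hW : ∀ x ∈ LinearMap.range Φ, X.g x ∈ LinearMap.range Φ := by
    rintro _ ⟨pq, rfl⟩
    refine ⟨((1 + Polynomial.X) * pq.1, (1 + Polynomial.X) * pq.2), ?_⟩
    simp only [hΦ, map_mul, map_add, map_one, aeval_X, Module.End.mul_apply, LinearMap.add_apply,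
      Module.End.one_apply, X.N_apply]
    abel
  have hn : ∀ x ∈ LinearMap.range Φ, (∀ y ∈ LinearMap.range Φ, X.B x y = 0) → x = 0 := by
    rintro _ ⟨pq, rfl⟩ h
    obtain ⟨hp, hq⟩ := hb.dvd_of_perp pq.1 pq.2 (fun k => h _ ⟨(Polynomial.X ^ k, 0), by simp [hΦ]⟩)
      (fun k => h _ ⟨(0, Polynomial.X ^ k), by simp [hΦ]⟩)
    rw [hΦ, hb.aeval_eq_zero hp, hb.aeval_eq_zero hq]
    simp
  have hne : LinearMap.range Φ ≠ ⊥ := by
    intro h
    have hv : v₀ ∈ LinearMap.range Φ := ⟨(1, 0), by simp [hΦ]⟩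
    rw [h, Submodule.mem_bot] at hv
    exact hb.top (by rw [hv, map_zero, LinearMap.zero_apply])
  obtain ⟨pq, hpq⟩ := LinearMap.range_eq_top.mp ((hX.2 _ hW hn).resolve_left hne) x
  exact ⟨pq.1, pq.2, hpq.symm⟩

theorem finrank_eq (hX : Indec X) : Module.finrank F X.V = 2 * n := by
  let Ψ : degreeLT F n × degreeLT F n →ₗ[F] X.V :=
    ((LinearMap.applyₗ v₀) ∘ₗ (aeval X.N : F[X] →ₐ[F] Module.End F X.V).toLinearMap ∘ₗ (degreeLT F n).subtype).coprod
      ((LinearMap.applyₗ w₀) ∘ₗ (aeval X.N : F[X] →ₐ[F] Module.End F X.V).toLinearMap ∘ₗ (degreeLT F n).subtype)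
  have hΨ : ∀ pq, Ψ pq = aeval X.N (pq.1 : F[X]) v₀ + aeval X.N (pq.2 : F[X]) w₀ := fun _ => rfl
  have hinj : Function.Injective Ψ := by
    refine (injective_iff_map_eq_zero Ψ).mpr fun pq h => ?_
    rw [hΨ] at h
    obtain ⟨hp, hq⟩ := hb.dvd_of_perp pq.1 pq.2 (fun k => by rw [h, map_zero, LinearMap.zero_apply])
      (fun k => by rw [h, map_zero, LinearMap.zero_apply])
    refine Prod.ext (Subtype.ext ?_) (Subtype.ext ?_)
    · exact eq_zero_of_dvd_of_degree_lt hp (by rw [degree_X_pow]; exact mem_degreeLT.mp pq.1.2)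
    · exact eq_zero_of_dvd_of_degree_lt hq (by rw [degree_X_pow]; exact mem_degreeLT.mp pq.2.2)
  have hsurj : Function.Surjective Ψ := by
    intro x
    obtain ⟨p, q, rfl⟩ := hb.exists_eq hX x
    have hm : ∀ p : F[X], p %ₘ (Polynomial.X ^ n) ∈ degreeLT F n := fun p => mem_degreeLT.mpr
      (lt_of_lt_of_eq (degree_modByMonic_lt p (monic_X_pow n)) (degree_X_pow n))
    have he : ∀ p : F[X], aeval X.N (p %ₘ (Polynomial.X ^ n)) = aeval X.N p := fun p => by
      conv_rhs => rw [← modByMonic_add_div p (Polynomial.X ^ n), map_add,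
        hb.aeval_eq_zero (dvd_mul_right _ _), add_zero]
    exact ⟨(⟨_, hm p⟩, ⟨_, hm q⟩), by rw [hΨ]; simp only [he]⟩
  haveI : Module.Finite F (degreeLT F n) := Module.Finite.equiv (degreeLTEquiv F n).symm
  rw [← (LinearEquiv.ofBijective Ψ ⟨hinj, hsurj⟩).finrank_eq, Module.finrank_prod,
    (degreeLTEquiv F n).finrank_eq, Module.finrank_fin_fun, two_mul]

end Blocks

/-- The structure of an indecomposable unipotent space with degenerate top form. -/
theorem exists_blocks {X : Space.{v, w} F} (e : ℕ) (hMe : (X.s - (2 : F) • 1) ^ (e + 1) = 0)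
    (hMe' : (X.s - (2 : F) • 1) ^ e ≠ 0)
    (hbad : ∀ x, X.B (((X.s - (2 : F) • 1) ^ e) x) (X.g x) = 0) :
    ∃ (n : ℕ) (v₀ w₀ : X.V), Blocks X n v₀ w₀ ∧ (n = 2 * e + 1 ∨ n = 2 * e + 2) ∧
      ((2 : F) ≠ 0 → n = 2 * e + 1) := by
  classical
  have hM : ∀ k, (X.s - (2 : F) • 1) ^ k = X.gi ^ k * X.N ^ (2 * k) := fun k => by
    rw [X.s_sub_two, (X.gi_comm.pow_right 2).mul_pow, ← pow_mul]
  have hunit : IsUnit X.gi := by
    refine ⟨⟨X.gi, 1 + X.N, X.gi_mul, ?_⟩, rfl⟩
    rw [add_mul, one_mul, ← X.gi_comm.eq]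
    conv_lhs => arg 1; rw [← mul_one X.gi]
    rw [← mul_add, X.gi_mul]
  have hN : X.N ^ (2 * (e + 1)) = 0 := by
    rw [← (hunit.pow (e + 1)).mul_right_eq_zero, ← hM, hMe]
  have hex : ∃ n, X.N ^ n = 0 := ⟨_, hN⟩
  set n := Nat.find hex
  have hnil : X.N ^ n = 0 := Nat.find_spec hex
  have hlo : 2 * e < n := by
    by_contra hh
    exact hMe' (by rw [hM, pow_eq_zero_of_le (not_lt.mp hh) hnil, mul_zero])
  have hhi : n ≤ 2 * e + 2 := Nat.find_min' hex (by rw [← hN]; ring_nf)
  have hodd : (2 : F) ≠ 0 → n = 2 * e + 1 := by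
    intro h2
    refine le_antisymm (Nat.find_min' hex ?_) (by omega)
    -- `(g + 1) N^(2e+1) = 0`
    have hfix : ∀ x, X.g ((((X.s - (2 : F) • 1) ^ e)) x) = X.g.symm ((((X.s - (2 : F) • 1) ^ e)) x) := by
      have hp : (X.s - (2 : F) • 1) ^ e = aeval X.s ((Polynomial.X - C (2 : F)) ^ e) := by
        rw [map_pow, map_sub, aeval_X, aeval_C, Algebra.algebraMap_eq_smul_one]
      intro x
      refine (sub_eq_zero.mp (X.nd _ fun y => ?_)).symm
      have h := hbad (x + y)
      simp only [map_add, LinearMap.add_apply, hbad, zero_add, add_zero] at h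
      rw [map_sub, LinearMap.sub_apply, sub_eq_zero, X.adj', hp, ← aeval_s_comm, ← hp]
      have h3 : X.B (((X.s - (2 : F) • 1) ^ e) y) (X.g x) =
          -X.B (((X.s - (2 : F) • 1) ^ e) (X.g x)) y := by
        rw [hp, aeval_s_adj, X.swap]
      rw [h3] at h
      linear_combination h
    have h0 : X.N * (2 + X.N) * (X.s - (2 : F) • 1) ^ e = 0 := by
      refine LinearMap.ext fun x => ?_
      have h := congrArg X.g (hfix x)
      rw [LinearEquiv.apply_symm_apply] at h
      rw [LinearMap.zero_apply, Module.End.mul_apply, Module.End.mul_apply]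
      show X.N (((2 : Module.End F X.V) + X.N) _) = 0
      rw [show (2 : Module.End F X.V) = (1 : Module.End F X.V) + 1 from one_add_one_eq_two.symm]
      simp only [LinearMap.add_apply, Module.End.one_apply, map_add, X.N_apply, map_sub, h]
      abel
    have h1 : X.N ^ (2 * e) = (X.s - (2 : F) • 1) ^ e * (1 + X.N) ^ e := by
      have hc : Commute X.gi (1 + X.N) := (Commute.one_right _).add_right X.gi_comm
      rw [hM, mul_assoc, ((Commute.one_right (X.N ^ (2 * e))).add_right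
        ((Commute.refl X.N).pow_left _)).pow_right e |>.eq, ← mul_assoc, ← hc.mul_pow, X.gi_mul,
        one_pow, one_mul]
    have h2' : X.N * (2 + X.N) * X.N ^ (2 * e) = 0 := by
      rw [h1, ← mul_assoc, h0, zero_mul]
    have h3 : (2 : F) • X.N ^ (2 * e + 1) = 0 := by
      rw [mul_add, add_mul, mul_assoc X.N X.N, ← pow_succ', ← pow_succ',
        pow_eq_zero_of_le (show 2 * (e + 1) ≤ 2 * e + 1 + 1 by omega) hN, add_zero,
        mul_two, add_mul, ← pow_succ', ← two_smul F] at h2'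
      exact h2'
    exact (smul_eq_zero.mp h3).resolve_left h2
  refine ⟨n, ?_⟩
  have hn0 : 0 < n := by omega
  have hne : X.N ^ (n - 1) ≠ 0 := Nat.find_min hex (by omega)
  obtain ⟨w₀, hw₀⟩ : ∃ w₀, (X.N ^ (n - 1)) w₀ ≠ 0 := by
    by_contra hh
    push Not at hh
    exact hne (LinearMap.ext hh)
  obtain ⟨v₀, hv₀⟩ : ∃ v₀, X.B v₀ ((X.N ^ (n - 1)) w₀) ≠ 0 := by
    by_contra hh
    push Not at hh
    exact hw₀ (X.nd' _ hh)
  refine ⟨v₀, w₀, ⟨hn0, hnil, hv₀, fun x => ?_⟩, by omega, hodd⟩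
  have hp : (X.s - (2 : F) • 1) ^ e = aeval X.s ((Polynomial.X - C (2 : F)) ^ e) := by
    rw [map_pow, map_sub, aeval_X, aeval_C, Algebra.algebraMap_eq_smul_one]
  rcases (show n = 2 * e + 1 ∨ n = 2 * e + 2 by omega) with he | he
  · rw [show n - 1 = 2 * e by omega, ← X.gi_pow_fix hnil (show n ≤ 2 * e + 1 by omega) e, ← hM, hp,
      ← aeval_s_adj]
    exact aeval_s_alt X _ x
  · have h1 : X.N ^ (n - 1) = X.N * (X.s - (2 : F) • 1) ^ e := by
      rw [hM, ← mul_assoc, ← (X.gi_comm.pow_left e).eq, mul_assoc, ← pow_succ',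
        X.gi_pow_fix hnil (by omega), show n - 1 = 2 * e + 1 by omega]
    rw [h1, Module.End.mul_apply, X.N_apply, map_sub, hp, ← aeval_s_adj X _ x x, aeval_s_alt, sub_zero,
      ← X.adj', ← aeval_s_adj, ← hp]
    simpa using hbad (X.g.symm x)

end CfsgLib.OreSp
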