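import Cfsg.Agent.OreSp.Unipotent

/-!
# The Lagrangian of a degenerate unipotent block pair
-/

set_option autoImplicit false

namespace CfsgLib.OreSp

open LinearMap Submodule Polynomial

universe v w

variable {F : Type v} [Field F] {X : Space.{v, w} F}

namespace Blocks

variable {n : ℕ} {v₀ w₀ : X.V} (hb : Blocks X n v₀ w₀)
include hb

theorem dvd_of_eq_zero (p q : F[X]) (h : aeval X.N p v₀ + aeval X.N q w₀ = 0) :
    Polynomial.X ^ n ∣ p ∧ Polynomial.X ^ n ∣ q :=
  hb.dvd_of_perp p q (fun k => by rw [h, map_zero, LinearMap.zero_apply])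
    (fun k => by rw [h, map_zero, LinearMap.zero_apply])

/-- A polynomial `u` with `u(N) = g⁻¹`. -/
theorem exists_inv_poly : ∃ u : F[X], u.coeff 0 = 1 ∧ aeval X.N u = X.gi := by
  refine ⟨∑ i ∈ Finset.range n, (-Polynomial.X) ^ i, ?_, ?_⟩
  · rw [coeff_zero_eq_eval_zero, eval_finset_sum, Finset.sum_eq_single_of_mem 0
      (Finset.mem_range.mpr hb.pos) (fun i _ hi => by simp [zero_pow hi])]
    simp
  · have h := geom_sum_mul_neg (-X.N) n
    rw [neg_pow X.N n, hb.nil, mul_zero, sub_zero, sub_neg_eq_add] at h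
    simp only [map_sum, map_pow, map_neg, aeval_X]
    calc (∑ i ∈ Finset.range n, (-X.N) ^ i)
        = (∑ i ∈ Finset.range n, (-X.N) ^ i) * ((1 + X.N) * X.gi) := by
          rw [((Commute.one_left X.gi).add_left X.gi_comm.symm).eq, X.gi_mul, mul_one]
      _ = X.gi := by rw [← mul_assoc, h, one_mul]

/-- The indecomposable unipotent pieces with degenerate top form are good. -/
theorem good (hX : Indec X) (e : ℕ) (hn : n = 2 * e + 1 ∨ n = 2 * e + 2) : Good X := by
  obtain ⟨δ, hδ1, hδ⟩ : ∃ δ, δ ≤ 1 ∧ n + δ = 2 * e + 2 := by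
    rcases hn with h | h
    · exact ⟨1, le_rfl, by omega⟩
    · exact ⟨0, Nat.zero_le _, by omega⟩
  obtain ⟨u, hu0, hu⟩ := hb.exists_inv_poly
  have hu0' : u.coeff 0 ≠ 0 := by rw [hu0]; exact one_ne_zero
  set m : F[X] := Polynomial.X ^ 2 * u with hm
  set M := X.s - (2 : F) • 1 with hMdef
  have hM : aeval X.N m = M := by
    rw [hMdef, X.s_sub_two, hm, map_mul, map_pow, aeval_X, hu, (X.gi_comm.pow_right 2).eq]
  have hMr : ∀ r : F[X], aeval M r = aeval X.N (r.comp m) := fun r => by
    rw [aeval_comp, hM]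
  have hMs : ∀ r : F[X], aeval M r = aeval X.s (r.comp (Polynomial.X - C (2 : F))) := fun r => by
    rw [aeval_comp, map_sub, aeval_X, aeval_C, Algebra.algebraMap_eq_smul_one]
  -- the second generator
  obtain ⟨a, ha0, ha⟩ : ∃ a : F[X], a.coeff 0 = 1 ∧ ∀ i ≤ e,
      X.B v₀ (aeval X.N (m ^ i * (Polynomial.X ^ δ * a)) w₀) = 0 := by
    suffices ∀ k, ∃ a : F[X], a.coeff 0 = 1 ∧ ∀ i ≤ e, e < i + k →
        X.B v₀ (aeval X.N (m ^ i * (Polynomial.X ^ δ * a)) w₀) = 0 by
      obtain ⟨a, ha0, ha⟩ := this (e + 1)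
      exact ⟨a, ha0, fun i hi => ha i hi (by omega)⟩
    intro k
    induction k with
    | zero => exact ⟨1, by simp, fun i hi h => absurd h (by omega)⟩
    | succ k ih =>
      obtain ⟨a, ha0, ha⟩ := ih
      by_cases hk : e < k
      · exact ⟨a, ha0, fun i hi _ => ha i hi (by omega)⟩
      set i₀ := e - k with hi₀
      -- deeper terms vanish
      have hkill : ∀ (i : ℕ) (c : F[X]) (j : ℕ), n ≤ 2 * i + j →
          aeval X.N (m ^ i * (Polynomial.X ^ j * c)) = 0 := fun i c j hij => by
        apply hb.aeval_eq_zero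
        rw [hm, mul_pow, ← pow_mul, show Polynomial.X ^ (2 * i) * u ^ i * (Polynomial.X ^ j * c) =
          Polynomial.X ^ (2 * i + j) * (u ^ i * c) by rw [pow_add]; ring]
        exact Dvd.dvd.mul_right (pow_dvd_pow _ hij) _
      by_cases hd : n ≤ 2 * i₀ + δ
      · refine ⟨a, ha0, fun i hi h => ?_⟩
        rcases eq_or_ne i i₀ with rfl | hne
        · rw [hkill _ _ _ hd, LinearMap.zero_apply, map_zero]
        · exact ha i hi (by omega)
      obtain ⟨j, hj⟩ : ∃ j, 2 * i₀ + δ + (j + 2) = n + 1 := ⟨n + 1 - (2 * i₀ + δ + 2), by omega⟩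
      have hj0 : 1 ≤ j := by omega
      set b := X.B v₀ ((X.N ^ (n - 1)) w₀)
      set c := X.B v₀ (aeval X.N (m ^ i₀ * (Polynomial.X ^ δ * a)) w₀)
      refine ⟨a - C (c / b) * Polynomial.X ^ j, ?_, fun i hi h => ?_⟩
      · rw [coeff_sub, coeff_C_mul, coeff_X_pow, if_neg (by omega), mul_zero, sub_zero, ha0]
      have hsplit : m ^ i * (Polynomial.X ^ δ * (a - C (c / b) * Polynomial.X ^ j)) =
          m ^ i * (Polynomial.X ^ δ * a) - C (c / b) * (m ^ i * (Polynomial.X ^ (δ + j) * 1)) := by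
        rw [pow_add]; ring
      rw [hsplit, map_sub, LinearMap.sub_apply, map_sub, map_mul (aeval X.N) (C (c / b)), aeval_C,
        Module.End.mul_apply, Module.algebraMap_end_apply, map_smul, smul_eq_mul]
      rcases eq_or_ne i i₀ with rfl | hne
      · have h1 : aeval X.N (m ^ i₀ * (Polynomial.X ^ (δ + j) * 1)) = X.N ^ (n - 1) := by
          rw [hm, mul_pow, mul_one, ← pow_mul, mul_right_comm, ← pow_add, map_mul, map_pow, map_pow,
            aeval_X, hu, ← (X.gi_comm.pow_pow _ _).eq, show 2 * i₀ + (δ + j) = n - 1 by omega,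
            X.gi_pow_fix hb.nil (by omega)]
        rw [h1, div_mul_cancel₀ _ hb.top, sub_self]
      · rw [ha i hi (by omega), hkill i 1 (δ + j) (by omega), LinearMap.zero_apply, map_zero, mul_zero,
          sub_zero]
  have ha0' : a.coeff 0 ≠ 0 := by rw [ha0]; exact one_ne_zero
  set z := aeval X.N (Polynomial.X ^ δ * a) w₀
  -- `M` polynomials pair the generators trivially
  have hvz : ∀ r : F[X], X.B (aeval M r v₀) z = 0 := by
    intro r
    rw [hMs, aeval_s_adj, ← hMs]
    induction r using Polynomial.induction_on' with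
    | add p q hp hq => rw [map_add, LinearMap.add_apply, map_add, hp, hq, add_zero]
    | monomial i c =>
      rw [aeval_monomial, ← Algebra.smul_def, LinearMap.smul_apply, map_smul]
      rcases le_or_gt i e with hi | hi
      · rw [← hM, ← map_pow, ← Module.End.mul_apply, ← map_mul, ha i hi, smul_zero]
      · have : M ^ i = 0 := by
          rw [hMdef, X.s_sub_two, (X.gi_comm.pow_right 2).mul_pow, ← pow_mul,
            pow_eq_zero_of_le (by omega) hb.nil, mul_zero]
        rw [this, LinearMap.zero_apply, map_zero, smul_zero]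
  have hsame : ∀ (r r' : F[X]) (y : X.V), X.B (aeval M r y) (aeval M r' y) = 0 := fun r r' y => by
    rw [hMs r, hMs r', ← aeval_s_adj, ← Module.End.mul_apply, ← map_mul]
    exact aeval_s_alt X _ y
  have hcross : ∀ r r' : F[X], X.B (aeval M r v₀) (aeval M r' z) = 0 := fun r r' => by
    rw [hMs r', ← aeval_s_adj, ← hMs r', ← Module.End.mul_apply, ← map_mul]
    exact hvz _
  let Θ : F[X] × F[X] →ₗ[F] X.V :=
    ((LinearMap.applyₗ v₀) ∘ₗ (aeval M : F[X] →ₐ[F] Module.End F X.V).toLinearMap).coprod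
      ((LinearMap.applyₗ z) ∘ₗ (aeval M : F[X] →ₐ[F] Module.End F X.V).toLinearMap)
  have hΘ : ∀ rr, Θ rr = aeval M rr.1 v₀ + aeval M rr.2 z := fun _ => rfl
  have hΘ' : ∀ rr, Θ rr = aeval X.N (rr.1.comp m) v₀ +
      aeval X.N (rr.2.comp m * (Polynomial.X ^ δ * a)) w₀ := fun rr => by
    rw [hΘ, hMr, hMr, map_mul (aeval X.N) (rr.2.comp m), Module.End.mul_apply]
  set L := LinearMap.range Θ
  have hiso : ∀ x ∈ L, ∀ y ∈ L, X.B x y = 0 := by
    rintro _ ⟨rr, rfl⟩ _ ⟨rr', rfl⟩
    simp only [hΘ, map_add, LinearMap.add_apply, hsame, hcross, X.swap (aeval M rr'.1 v₀), neg_zero,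
      add_zero]
  have hdim : Module.finrank F X.V = 2 * Module.finrank F L := by
    have hup : 2 * Module.finrank F L ≤ Module.finrank F X.V := by
      have h1 := finrank_perp_add X L
      have h2 : L ≤ perp X L := fun x hx y hy => hiso y hy x hx
      have := Submodule.finrank_mono h2
      omega
    have hlow : n ≤ Module.finrank F L := by
      haveI : ∀ k, Module.Finite F (degreeLT F k) := fun k =>
        Module.Finite.equiv (degreeLTEquiv F k).symm
      let T : degreeLT F (e + 1) × degreeLT F (e + 1 - δ) →ₗ[F] L :=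
        (Θ ∘ₗ (degreeLT F (e + 1)).subtype.prodMap (degreeLT F (e + 1 - δ)).subtype).codRestrict L
          (fun x => ⟨_, rfl⟩)
      have hT : Function.Injective T := by
        refine (injective_iff_map_eq_zero T).mpr fun rr h => ?_
        have h' : Θ ((rr.1 : F[X]), (rr.2 : F[X])) = 0 := congrArg Subtype.val h
        rw [hΘ'] at h'
        obtain ⟨hp, hq⟩ := hb.dvd_of_eq_zero _ _ h'
        refine Prod.ext (Subtype.ext ?_) (Subtype.ext ?_)
        · by_contra h0
          obtain ⟨i, U, hi, hU, hiU⟩ := comp_lead hu0' h0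
          have hd := (natDegree_lt_iff_degree_lt h0).mpr (mem_degreeLT.mp rr.1.2)
          have := dvd_lead hU (hiU ▸ hp)
          omega
        · by_contra h0
          obtain ⟨i, U, hi, hU, hiU⟩ := comp_lead hu0' h0
          have hd := (natDegree_lt_iff_degree_lt h0).mpr (mem_degreeLT.mp rr.2.2)
          rw [hiU, show Polynomial.X ^ (2 * i) * U * (Polynomial.X ^ δ * a) =
            Polynomial.X ^ (2 * i + δ) * (U * a) by rw [pow_add]; ring] at hq
          have := dvd_lead (by rw [mul_coeff_zero]; exact mul_ne_zero hU ha0') hq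
          omega
      have := LinearMap.finrank_le_finrank_of_injective hT
      rw [Module.finrank_prod, (degreeLTEquiv F _).finrank_eq, (degreeLTEquiv F _).finrank_eq,
        Module.finrank_fin_fun, Module.finrank_fin_fun] at this
      omega
    have := hb.finrank_eq hX
    omega
  refine ⟨L, hiso, hdim, ?_, ?_⟩
  · rintro _ ⟨rr, rfl⟩
    refine ⟨((Polynomial.X + C (2 : F)) * rr.1, (Polynomial.X + C (2 : F)) * rr.2), ?_⟩
    have : aeval M (Polynomial.X + C (2 : F)) = X.s := by
      rw [map_add, aeval_X, aeval_C, Algebra.algebraMap_eq_smul_one, hMdef, sub_add_cancel]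
    simp only [hΘ, map_mul, this, Module.End.mul_apply, map_add]
  · rintro _ ⟨rr, rfl⟩ ⟨rr', hrr⟩
    rw [← sub_eq_zero, ← X.N_apply]
    have key : ∀ (p : F[X]) (y : X.V), X.N (aeval X.N p y) = aeval X.N (Polynomial.X * p) y :=
      fun p y => by rw [map_mul, aeval_X, Module.End.mul_apply]
    rw [← X.N_apply, hΘ', hΘ', map_add, key, key] at hrr
    rw [← sub_eq_zero, add_sub_add_comm, ← LinearMap.sub_apply,
      ← LinearMap.sub_apply, ← map_sub, ← map_sub] at hrr
    obtain ⟨hp, hq⟩ := hb.dvd_of_eq_zero _ _ hrr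
    have hp' := parity hu0' (dvd_sub_comm.mp hp)
    have hq' : Polynomial.X ^ n ∣ Polynomial.X * (rr.2.comp m * (Polynomial.X ^ δ * a)) := by
      rw [dvd_sub_comm, show Polynomial.X * (rr.2.comp m * (Polynomial.X ^ δ * a)) -
          rr'.2.comp m * (Polynomial.X ^ δ * a) =
          Polynomial.X ^ δ * ((Polynomial.X * rr.2.comp m - rr'.2.comp m) * a) by ring,
        show n = δ + (n - δ) by omega, pow_add, mul_dvd_mul_iff_left (pow_ne_zero _ X_ne_zero)] at hq
      have h2 := parity hu0' ((coprime_X_pow ha0' _).dvd_of_dvd_mul_right hq)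
      rw [show Polynomial.X * (rr.2.comp m * (Polynomial.X ^ δ * a)) =
          Polynomial.X ^ δ * (Polynomial.X * rr.2.comp m) * a by ring,
        show n = δ + (n - δ) by omega, pow_add]
      exact Dvd.dvd.mul_right (mul_dvd_mul_left _ h2) _
    have e1 := hb.aeval_eq_zero hp'
    have e2 := hb.aeval_eq_zero hq'
    rw [map_mul, aeval_X] at e1 e2
    rw [hΘ', map_add, ← Module.End.mul_apply, ← Module.End.mul_apply, e1, e2]
    simp

end Blocks

end CfsgLib.OreSp
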